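import Mathlib
import Cfsg.Agent.Lib.GoldschmidtFusion

/-!
# Fixity: basic facts on stabilizers of small sets
-/

set_option autoImplicit false

namespace Cfsg.Agent.H350.Fix

open Subgroup Cfsg.Agent.Lib.GoldschmidtFusion

section Act

variable {G Ω : Type*} [Group G] [MulAction G Ω]

/-- pointwise stabilizer -/
def kst (G : Type*) {Ω : Type*} [Group G] [MulAction G Ω] (Δ : Set Ω) : Subgroup G where
  carrier := {g | ∀ x ∈ Δ, g • x = x}
  one_mem' := fun x _ => one_smul G x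
  mul_mem' := by
    intro a b ha hb x hx
    rw [mul_smul, hb x hx, ha x hx]
  inv_mem' := by
    intro a ha x hx
    rw [inv_smul_eq_iff, ha x hx]

/-- setwise stabilizer -/
def mst (G : Type*) {Ω : Type*} [Group G] [MulAction G Ω] (Δ : Set Ω) : Subgroup G where
  carrier := {g | ∀ x, g • x ∈ Δ ↔ x ∈ Δ}
  one_mem' := fun x => by rw [one_smul]
  mul_mem' := by
    intro a b ha hb x
    rw [mul_smul, ha, hb]
  inv_mem' := by
    intro a ha x
    rw [← ha (a⁻¹ • x), smul_inv_smul]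

/-- the set of common fixed points -/
def fx (Ω : Type*) {G : Type*} [Group G] [MulAction G Ω] (T : Subgroup G) : Set Ω :=
  {x | ∀ g ∈ T, g • x = x}

theorem mem_kst {Δ : Set Ω} {g : G} : g ∈ kst G Δ ↔ ∀ x ∈ Δ, g • x = x := Iff.rfl
theorem mem_mst {Δ : Set Ω} {g : G} : g ∈ mst G Δ ↔ ∀ x, g • x ∈ Δ ↔ x ∈ Δ := Iff.rfl
theorem mem_fx {T : Subgroup G} {x : Ω} : x ∈ fx Ω T ↔ ∀ g ∈ T, g • x = x := Iff.rfl

theorem mem_fixedBy' {g : G} {x : Ω} : x ∈ MulAction.fixedBy Ω g ↔ g • x = x := Iff.rfl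

theorem kst_le_mst (Δ : Set Ω) : kst G Δ ≤ mst G Δ := by
  intro g hg x
  constructor
  · intro h
    have h1 : g • (g • x) = g • x := hg _ h
    have h2 : g • x = x := MulAction.injective g h1
    rwa [h2] at h
  · intro h
    rw [hg x h]; exact h

theorem fixedBy_conj (g x : G) (a : Ω) :
    a ∈ MulAction.fixedBy Ω (g * x * g⁻¹) ↔ g⁻¹ • a ∈ MulAction.fixedBy Ω x := by
  rw [mem_fixedBy', mem_fixedBy', mul_smul, mul_smul, smul_eq_iff_eq_inv_smul]

theorem mem_mst_of_fixedBy {Δ : Set Ω} {g x : G} (h1 : MulAction.fixedBy Ω x = Δ)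
    (h2 : MulAction.fixedBy Ω (g * x * g⁻¹) = Δ) : g ∈ mst G Δ := by
  rw [← inv_mem_iff]
  intro a
  rw [← h1, ← fixedBy_conj, h2, h1]

theorem mst_kst_normal {Δ : Set Ω} {g k : G} (hg : g ∈ mst G Δ) (hk : k ∈ kst G Δ) :
    g * k * g⁻¹ ∈ kst G Δ := by
  intro x hx
  have h1 : g⁻¹ • x ∈ Δ := ((inv_mem hg) x).2 hx
  rw [mul_smul, mul_smul, hk _ h1, smul_inv_smul]

theorem fx_anti {T U : Subgroup G} (h : T ≤ U) : fx Ω U ⊆ fx Ω T := fun _ hx g hg => hx g (h hg)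

theorem fx_sub_fixedBy {T : Subgroup G} {x : G} (hx : x ∈ T) : fx Ω T ⊆ MulAction.fixedBy Ω x :=
  fun _ ha => ha x hx

theorem fx_zpowers (x : G) : fx Ω (zpowers x) = MulAction.fixedBy Ω x := by
  ext a
  constructor
  · intro h; exact h x (mem_zpowers x)
  · intro h g hg
    have h1 : zpowers x ≤ MulAction.stabilizer G a := by
      rw [zpowers_le]; exact h
    exact h1 hg

theorem fixedBy_pow_sub (x : G) (n : ℕ) : MulAction.fixedBy Ω x ⊆ MulAction.fixedBy Ω (x ^ n) := by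
  intro a ha
  rw [← fx_zpowers] at ha
  exact ha _ (pow_mem (mem_zpowers x) n)

theorem fx_mst {T : Subgroup G} {g : G} (hg : g ∈ normalizer (T : Set G)) : g ∈ mst G (fx Ω T) := by
  intro x
  constructor
  · intro h t ht
    have h1 : g * t * g⁻¹ ∈ T := (mem_normalizer_iff.1 hg t).1 ht
    have h2 := h _ h1
    rw [mul_smul, mul_smul, inv_smul_smul] at h2
    exact MulAction.injective g h2
  · intro h t ht
    have h1 : g⁻¹ * t * g ∈ T := by
      have := (mem_normalizer_iff.1 (inv_mem hg) t).1 ht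
      simpa using this
    have h2 := h _ h1
    rw [mul_smul, mul_smul, inv_smul_eq_iff] at h2
    exact h2

theorem card_fx_modEq [Finite Ω] {p : ℕ} [Fact p.Prime] {T : Subgroup G} (hT : IsPGroup p T) :
    Nat.card Ω ≡ (fx Ω T).ncard [MOD p] := by
  have h1 := hT.card_modEq_card_fixedPoints Ω
  have h2 : MulAction.fixedPoints T Ω = fx Ω T := by
    ext x
    constructor
    · intro h g hg; exact h ⟨g, hg⟩
    · intro h g; exact h g g.2
  rw [h2] at h1
  exact h1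

theorem card_fixedBy_modEq [Finite Ω] {p : ℕ} [Fact p.Prime] {x : G} (hx : IsPGroup p (zpowers x)) :
    Nat.card Ω ≡ (MulAction.fixedBy Ω x).ncard [MOD p] := by
  rw [← fx_zpowers]; exact card_fx_modEq hx

/-- the action of a subgroup on an invariant set -/
def actOn (H : Subgroup G) (Γ : Set Ω) (h : ∀ g ∈ H, ∀ x ∈ Γ, g • x ∈ Γ) : H →* Equiv.Perm Γ :=
  letI : MulAction H Γ :=
    { smul := fun g x => ⟨(g : G) • (x : Ω), h g g.2 x x.2⟩
      one_smul := fun x => Subtype.ext (one_smul G (x : Ω))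
      mul_smul := fun a b x => Subtype.ext (mul_smul (a : G) (b : G) (x : Ω)) }
  MulAction.toPermHom H Γ

theorem actOn_apply {H : Subgroup G} {Γ : Set Ω} (h : ∀ g ∈ H, ∀ x ∈ Γ, g • x ∈ Γ) (g : H) (x : Γ) :
    ((actOn H Γ h g x : Γ) : Ω) = (g : G) • (x : Ω) := rfl

theorem mem_ker_actOn {H : Subgroup G} {Γ : Set Ω} (h : ∀ g ∈ H, ∀ x ∈ Γ, g • x ∈ Γ) (g : H) :
    g ∈ (actOn H Γ h).ker ↔ ∀ x ∈ Γ, (g : G) • x = x := by
  rw [MonoidHom.mem_ker]
  constructor
  · intro h1 x hx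
    have := congrArg (fun σ : Equiv.Perm Γ => ((σ ⟨x, hx⟩ : Γ) : Ω)) h1
    simpa [actOn_apply] using this
  · intro h1
    ext x
    rw [actOn_apply]
    exact h1 x x.2

theorem relIndex_eq_card_range {H K : Subgroup G} {Γ : Set Ω}
    (h : ∀ g ∈ H, ∀ x ∈ Γ, g • x ∈ Γ) (hK : ∀ g ∈ H, g ∈ K ↔ ∀ x ∈ Γ, g • x = x) :
    K.relIndex H = Nat.card (actOn H Γ h).range := by
  have h1 : K.subgroupOf H = (actOn H Γ h).ker := by
    ext g
    rw [mem_ker_actOn, mem_subgroupOf]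
    exact hK g g.2
  rw [relIndex, h1, index_ker]

theorem relIndex_dvd_factorial {H K : Subgroup G} {Γ : Set Ω} [Finite Ω] {n : ℕ} (hn : Γ.ncard = n)
    (h : ∀ g ∈ H, ∀ x ∈ Γ, g • x ∈ Γ) (hK : ∀ g ∈ H, g ∈ K ↔ ∀ x ∈ Γ, g • x = x) :
    K.relIndex H ∣ n.factorial := by
  rw [relIndex_eq_card_range h hK]
  have h1 : Nat.card (Equiv.Perm Γ) = n.factorial := by
    rw [Nat.card_perm, ← hn]; rfl
  rw [← h1]
  exact Subgroup.card_subgroup_dvd_card _

end Act

section Odd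

variable {G : Type*} [Group G]

theorem odd_no_invert {H : Subgroup G} [Finite H] (hH : Odd (Nat.card H)) {g w : G} (hg : g ∈ H)
    (hw : w ∈ H) (h : g * w * g⁻¹ = w⁻¹) : w = 1 := by
  have h1 : ∀ k : ℕ, g ^ (2 * k) * w * (g ^ (2 * k))⁻¹ = w := by
    intro k
    induction k with
    | zero => simp
    | succ k ih =>
      have e : g ^ (2 * (k + 1)) * w * (g ^ (2 * (k + 1)))⁻¹ =
          g ^ (2 * k) * (g * (g * w * g⁻¹) * g⁻¹) * (g ^ (2 * k))⁻¹ := by
        rw [mul_add, pow_add, mul_one, pow_two]; group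
      rw [e, h]
      have e2 : g * w⁻¹ * g⁻¹ = (g * w * g⁻¹)⁻¹ := by group
      rw [e2, h, inv_inv, ih]
  have hdg : orderOf g ∣ Nat.card H := by
    have := orderOf_dvd_natCard (⟨g, hg⟩ : H)
    rwa [← Subgroup.orderOf_coe] at this
  have hdw : orderOf w ∣ Nat.card H := by
    have := orderOf_dvd_natCard (⟨w, hw⟩ : H)
    rwa [← Subgroup.orderOf_coe] at this
  obtain ⟨k, hk⟩ := hH
  have h2 : g ^ (2 * k + 1) = 1 := by
    rw [← hk]; exact orderOf_dvd_iff_pow_eq_one.1 hdg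
  have h3 : w = w⁻¹ := by
    have e : w = g ^ (2 * k + 1) * w * (g ^ (2 * k + 1))⁻¹ := by rw [h2]; simp
    have e2 : g ^ (2 * k + 1) * w * (g ^ (2 * k + 1))⁻¹ =
        g * (g ^ (2 * k) * w * (g ^ (2 * k))⁻¹) * g⁻¹ := by
      rw [pow_succ']; group
    rw [e2, h1, h] at e
    exact e
  have h4 : w ^ 2 = 1 := by
    rw [pow_two]; nth_rw 2 [h3]; exact mul_inv_cancel w
  have h5 : orderOf w ∣ 2 := orderOf_dvd_of_pow_eq_one h4
  rcases (Nat.dvd_prime Nat.prime_two).1 h5 with h6 | h6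
  · exact orderOf_eq_one_iff.1 h6
  · rw [h6, hk] at hdw; omega

theorem perm_three_comm {Γ : Type*} (hΓ : Nat.card Γ = 3) (H : Subgroup (Equiv.Perm Γ))
    (hH : Odd (Nat.card H)) : ∀ a ∈ H, ∀ b ∈ H, a * b = b * a := by
  have hfΓ : Finite Γ := Nat.finite_of_card_ne_zero (by rw [hΓ]; norm_num)
  have h1 : Nat.card (Equiv.Perm Γ) = 6 := by rw [Nat.card_perm, hΓ]; rfl
  have hf : Finite (Equiv.Perm Γ) := Nat.finite_of_card_ne_zero (by rw [h1]; norm_num)
  have h2 : Nat.card H ∣ 6 := h1 ▸ Subgroup.card_subgroup_dvd_card H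
  have h3 : Nat.card H ∈ Nat.divisors 6 := Nat.mem_divisors.2 ⟨h2, by norm_num⟩
  have h4 : Nat.divisors 6 = {1, 2, 3, 6} := by decide
  rw [h4] at h3
  simp only [Finset.mem_insert, Finset.mem_singleton] at h3
  intro a ha b hb
  rcases h3 with h | h | h | h
  · rw [card_eq_one] at h
    subst h
    rw [mem_bot] at ha hb
    rw [ha, hb]
  · rw [h] at hH; exact absurd hH (by decide)
  · have : Fact (Nat.Prime 3) := ⟨Nat.prime_three⟩
    have := isCyclic_of_prime_card (p := 3) h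
    have h5 := (IsCyclic.isMulCommutative (α := H)).is_comm.comm ⟨a, ha⟩ ⟨b, hb⟩
    exact congrArg Subtype.val h5
  · rw [h] at hH; exact absurd hH (by decide)

theorem odd_act_comm {Ω : Type*} [MulAction G Ω] {H : Subgroup G} [Finite H] {Γ : Set Ω}
    (hΓ : Γ.ncard = 3) (hH : Odd (Nat.card H)) (h : ∀ g ∈ H, ∀ x ∈ Γ, g • x ∈ Γ)
    {g x : G} (hg : g ∈ H) (hx : x ∈ H) : ∀ y ∈ Γ, (g * x * g⁻¹ * x⁻¹) • y = y := by
  have h1 : Odd (Nat.card (actOn H Γ h).range) := by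
    have h2 : Nat.card (actOn H Γ h).range ∣ Nat.card H := card_range_dvd _
    exact Odd.of_dvd_nat hH h2
  have h2 := perm_three_comm hΓ _ h1 _ ⟨⟨g, hg⟩, rfl⟩ _ ⟨⟨x, hx⟩, rfl⟩
  have h3 : (⟨g, hg⟩ * ⟨x, hx⟩ * ⟨g, hg⟩⁻¹ * ⟨x, hx⟩⁻¹ : H) ∈ (actOn H Γ h).ker := by
    rw [MonoidHom.mem_ker, map_mul, map_mul, map_mul, map_inv, map_inv, h2]
    group
  rw [mem_ker_actOn] at h3
  exact h3

end Odd

section Simple

open scoped commutatorElement

variable {G : Type*} [Group G] [Finite G]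

theorem commutator_eq_top [IsSimpleGroup G] (hna : ¬ IsMulCommutative G) : commutator G = ⊤ := by
  rcases (inferInstance : (commutator G).Normal).eq_bot_or_eq_top with h | h
  · exfalso
    apply hna
    constructor
    constructor
    intro a b
    have h1 : ⁅a, b⁆ ∈ commutator G := commutator_mem_commutator (mem_top a) (mem_top b)
    rw [h, mem_bot, commutatorElement_eq_one_iff_mul_comm] at h1
    exact h1
  · exact h

theorem no_normal_index [IsSimpleGroup G] (hna : ¬ IsMulCommutative G) {p : ℕ} [Fact p.Prime]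
    (P : Sylow p G) (T : Subgroup G) (hTP : T < P)
    (hTn : ∀ g ∈ (P : Subgroup G), ∀ x ∈ T, g * x * g⁻¹ ∈ T)
    (h : ∀ x ∈ (P : Subgroup G), ∀ g : G, g * x * g⁻¹ ∈ (P : Subgroup G) →
      g * x * g⁻¹ * x⁻¹ ∈ T) : False := by
  have h1 := commutator_inf_eq_focalSubgroup P
  rw [commutator_eq_top hna, top_inf_eq, focalSubgroup_def] at h1
  have h2 : (P : Subgroup G) ≤ T := by
    rw [h1, closure_le]
    rintro _ ⟨hg, x, hx, u, rfl⟩
    rw [commutatorElement_def] at hg ⊢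
    have h3 : u * x⁻¹ * u⁻¹ ∈ (P : Subgroup G) := by
      have : u * x⁻¹ * u⁻¹ = x⁻¹ * (x * u * x⁻¹ * u⁻¹) := by group
      rw [this]
      exact mul_mem (inv_mem hx) hg
    have h4 := h x⁻¹ (inv_mem hx) u h3
    have h5 := hTn x hx _ h4
    have h6 : x * (u * x⁻¹ * u⁻¹ * x⁻¹⁻¹) * x⁻¹ = x * u * x⁻¹ * u⁻¹ := by group
    rw [h6] at h5
    exact h5
  exact absurd h2 (not_le_of_gt hTP)

end Simple

end Cfsg.Agent.H350.Fix
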