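import Mathlib
import Cfsg.Agent.Lib.GoldschmidtFusion
import Cfsg.Agent.Characters.CNBasic

/-!
# Fixity 4, the prime 3: a fusion argument

`t3a`: `P` Sylow 3-subgroup, `T ⊴ P` of index 3 with strong trivial-intersection properties; then either
the map `P → P/T` is invariant under `G`-conjugation, or `P` is elementary abelian of order 9.
-/

set_option autoImplicit false

namespace Cfsg.Agent.H350.Fix

open Subgroup Cfsg.Agent.Lib.GoldschmidtFusion

variable {G : Type*} [Group G]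

/-- conjugation by `g` changes the elements of `A` only by elements of `T` -/
def Inv (T A : Subgroup G) (g : G) : Prop := ∀ x ∈ A, g * x * g⁻¹ * x⁻¹ ∈ T

theorem Inv.mul {T A : Subgroup G} {g h : G} (h1 : Inv T A g)
    (h2 : Inv T (A.map (MulAut.conj g).toMonoidHom) h) : Inv T A (h * g) := by
  intro x hx
  have e1 := h1 x hx
  have e2 := h2 _ (conj_mem_map_conj hx g)
  have : h * g * x * (h * g)⁻¹ * x⁻¹ =
      (h * (g * x * g⁻¹) * h⁻¹ * (g * x * g⁻¹)⁻¹) * (g * x * g⁻¹ * x⁻¹) := by group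
  rw [this]
  exact T.mul_mem e2 e1

theorem Inv.mono {T A B : Subgroup G} {g : G} (h1 : Inv T A g) (h : B ≤ A) : Inv T B g :=
  fun x hx => h1 x (h hx)

theorem Inv.inv {T A : Subgroup G} {g : G} (h1 : Inv T A g)
    (hn : g ∈ normalizer (A : Set G)) : Inv T A g⁻¹ := by
  intro x hx
  have h2 : g⁻¹ * x * g ∈ A := by
    have := (mem_normalizer_iff.1 (inv_mem hn) x).1 hx
    simpa using this
  have h3 := T.inv_mem (h1 _ h2)
  have : g⁻¹ * x * g⁻¹⁻¹ * x⁻¹ = (g * (g⁻¹ * x * g) * g⁻¹ * (g⁻¹ * x * g)⁻¹)⁻¹ := by group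
  rw [this]; exact h3

/-- Alperin's theorem with downward induction -/
theorem inv_lemma [Finite G] {p : ℕ} [hp : Fact p.Prime] (P : Sylow p G) (T : Subgroup G)
    (H : ∀ X : Subgroup G, X ≤ P →
      ¬ p ∣ ((P : Subgroup G) ⊓ normalizer (X : Set G)).relIndex (normalizer (X : Set G)) →
      centralizer (X : Set G) ⊓ P ≤ X →
      (∀ Q : Subgroup G, Q ≤ P → Nat.card X < Nat.card Q → ∀ g : G,
        Q.map (MulAut.conj g).toMonoidHom ≤ P → Inv T Q g) →
      ∀ g ∈ normalizer (X : Set G), Inv T X g) :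
    ∀ A : Subgroup G, A ≤ P → ∀ g : G, A.map (MulAut.conj g).toMonoidHom ≤ P → Inv T A g := by
  have hPfull : ¬ p ∣ ((P : Subgroup G) ⊓ normalizer ((P : Subgroup G) : Set G)).relIndex
      (normalizer ((P : Subgroup G) : Set G)) := by
    rw [inf_eq_left.2 le_normalizer]
    intro h
    exact P.not_dvd_index (h.trans (relIndex_dvd_index_of_le le_normalizer))
  have key : ∀ k : ℕ, ∀ A : Subgroup G, A ≤ P → Nat.card P ≤ Nat.card A + k → ∀ g : G,
      A.map (MulAut.conj g).toMonoidHom ≤ P → Inv T A g := by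
    intro k
    induction k using Nat.strong_induction_on with
    | _ k ih =>
      intro A hA hk g hg
      have hgen := gen_of_conj P (fun X => ¬ p ∣ ((P : Subgroup G) ⊓ normalizer (X : Set G)).relIndex
        (normalizer (X : Set G)) ∧ centralizer (X : Set G) ⊓ P ≤ X) ⟨hPfull, inf_le_right⟩
        (fun X _ h1 h2 _ => ⟨h1, h2⟩) hA hg
      clear hA hg
      revert hk
      induction hgen with
      | @cent A c hA hc =>
        intro _ x hx
        rw [conj_eq_of_mem_centralizer hc hx, mul_inv_cancel]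
        exact T.one_mem
      | @base A X g hX hFX hAX hg =>
        intro hk
        refine (H X hX hFX.1 hFX.2 ?_ g hg).mono hAX
        intro Q hQ hlt g hg
        have h1 : Nat.card A ≤ Nat.card X := Nat.card_le_card_of_injective _
          (inclusion_injective hAX)
        have h2 : Nat.card Q ≤ Nat.card P := Nat.card_le_card_of_injective _
          (inclusion_injective hQ)
        exact ih (k - 1) (by omega) Q hQ (by omega) g hg
      | @mul A g h _ _ ih1 ih2 =>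
        intro hk
        exact (ih1 hk).mul (ih2 (by rwa [card_map_conj]))
  intro A hA g hg
  exact key (Nat.card P) A hA (by omega) g hg

/-- Frattini argument -/
theorem frattini_in [Finite G] {p : ℕ} [hp : Fact p.Prime] {N C Q : Subgroup G} (hQ : IsPGroup p Q)
    (hQN : ¬ p ∣ Q.relIndex N) (hQC : Q ≤ C) (hCN : C ≤ N)
    (hnorm : ∀ n ∈ N, ∀ c ∈ C, n * c * n⁻¹ ∈ C) {n : G} (hn : n ∈ N) :
    ∃ c ∈ C, c * n ∈ normalizer (Q : Set G) := by
  have hn' : (C.subgroupOf N).Normal := by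
    constructor
    rintro ⟨c, hc⟩ hc' ⟨g, hg⟩
    simp only [mem_subgroupOf] at hc' ⊢
    exact hnorm g hg c hc'
  have h1 : Q.relIndex C ∣ Q.relIndex N := by
    have e1 : Q.relIndex C = (Q.subgroupOf N).relIndex (C.subgroupOf N) := by
      rw [relIndex_subgroupOf hCN]
    rw [e1]
    exact relIndex_dvd_index_of_normal_right _ _
  have h2 : ¬ p ∣ Q.relIndex C := fun h => hQN (h.trans h1)
  have h3 : Q.map (MulAut.conj n).toMonoidHom ≤ C := by
    rintro _ ⟨x, hx, rfl⟩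
    exact hnorm n hn x (hQC hx)
  obtain ⟨c, hc, hle⟩ := exists_conj_le_in (p := p) hQ h2 h3 (hQ.map _)
  refine ⟨c, hc, ?_⟩
  rw [mem_normalizer_iff_map_conj]
  rw [map_conj_map_conj] at hle
  exact map_conj_le_of_le_normalizer hle

theorem exists_central_three [Finite G] {p : ℕ} [hp : Fact p.Prime] {P T : Subgroup G}
    (hP : IsPGroup p P) (hTP : T ≤ P) (hT1 : T ≠ ⊥)
    (hTn : ∀ g ∈ P, ∀ x ∈ T, g * x * g⁻¹ ∈ T) :
    ∃ w ∈ T, w ≠ 1 ∧ w ^ p = 1 ∧ ∀ g ∈ P, g * w = w * g := by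
  obtain ⟨z, hzT, hz1, hzc⟩ := Cfsg.Agent.Characters.CNBasic.exists_mem_center_of_normal P hP T
    (hP.to_le hTP) hT1 hTn
  obtain ⟨k, hk⟩ := IsPGroup.iff_orderOf.1 hP ⟨z, hTP hzT⟩
  rw [← Subgroup.orderOf_coe] at hk
  rcases Nat.eq_zero_or_pos k with h0 | h0
  · rw [h0, pow_zero, orderOf_eq_one_iff] at hk
    exact absurd hk hz1
  obtain ⟨m, rfl⟩ := Nat.exists_eq_succ_of_ne_zero h0.ne'
  refine ⟨z ^ p ^ m, T.pow_mem hzT _, ?_, ?_, ?_⟩
  · intro h
    have h2 := orderOf_dvd_of_pow_eq_one h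
    rw [hk] at h2
    have h3 := (Nat.pow_dvd_pow_iff_le_right hp.out.one_lt).1 h2
    omega
  · rw [← pow_mul, ← pow_succ]
    have := pow_orderOf_eq_one z
    rwa [hk] at this
  · intro g hg
    exact (Commute.pow_right (hzc g hg) _)

theorem inverting_aux {w v y z : G} (hwv : w * v = v * w)
    (h1 : y * w * y⁻¹ = w) (h2 : y * v * y⁻¹ = v * w)
    (h3 : z * v * z⁻¹ = v) (h4 : z * w * z⁻¹ = w * v⁻¹) :
    (y * z * y * (y * z * y)) * w * (y * z * y * (y * z * y))⁻¹ = w⁻¹ := by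
  have c1 : MulAut.conj y w = w := h1
  have c2 : MulAut.conj y v = v * w := h2
  have c3 : MulAut.conj z v = v := h3
  have c4 : MulAut.conj z w = w * v⁻¹ := h4
  have d1 : MulAut.conj (y * z * y) w = v⁻¹ := by
    rw [map_mul, map_mul, MulAut.mul_apply, MulAut.mul_apply, c1, c4, map_mul, map_inv, c1, c2]
    rw [mul_inv_rev, mul_inv_cancel_left]
  have d2 : MulAut.conj (y * z * y) v = w := by
    rw [map_mul, map_mul, MulAut.mul_apply, MulAut.mul_apply, c2, map_mul, c3, c4, map_mul, map_mul,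
      map_inv, c1, c2]
    rw [mul_inv_rev, mul_inv_cancel_left, ← hwv]; group
  have : MulAut.conj (y * z * y * (y * z * y)) w = w⁻¹ := by
    rw [map_mul, MulAut.mul_apply, d1, map_inv, d2]
  exact this

section T3a

variable [Finite G] (P : Sylow 3 G) (T M L : Subgroup G)

theorem t3a
    (hTP : T ≤ P) (hT1 : T ≠ ⊥) (hTn : ∀ g ∈ (P : Subgroup G), ∀ x ∈ T, g * x * g⁻¹ ∈ T)
    (hT3 : T.relIndex (P : Subgroup G) = 3)
    (h1 : ∀ X : Subgroup G, X ≤ P → ¬ X ≤ T → X ⊓ T ≠ ⊥ → normalizer (X : Set G) ≤ L)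
    (h3 : ∀ w ∈ T, w ≠ 1 → ∀ g : G, g * w * g⁻¹ ∈ T → g ∈ M)
    (h4 : ∀ g ∈ L ⊓ M, ∀ x ∈ (P : Subgroup G), g * x * g⁻¹ ∈ (P : Subgroup G) →
      g * x * g⁻¹ * x⁻¹ ∈ T)
    (h5 : ∀ w ∈ T, w ≠ 1 → ∀ g ∈ L, g * w * g⁻¹ ≠ w⁻¹) :
    (∀ x ∈ (P : Subgroup G), ∀ g : G, g * x * g⁻¹ ∈ (P : Subgroup G) → g * x * g⁻¹ * x⁻¹ ∈ T) ∨
    (Nat.card P = 9 ∧ ∀ x ∈ (P : Subgroup G), x ^ 3 = 1) := by
  by_cases hfin : Nat.card P = 9 ∧ ∀ x ∈ (P : Subgroup G), x ^ 3 = 1
  · exact Or.inr hfin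
  left
  intro x hx g hg
  refine inv_lemma P T ?_ (zpowers x) (by rwa [zpowers_le]) g
    (zpowers_map_conj_le (P := (P : Subgroup G)) hg) x (mem_zpowers x)
  clear hx hg x g
  intro X hXP hfull hcent big n hn
  by_cases hXT : X ≤ T
  · intro x hx
    exact T.mul_mem (hXT ((mem_normalizer_iff.1 hn x).1 hx)) (T.inv_mem (hXT hx))
  obtain ⟨w, hwT, hw1, hw3, hwc⟩ := exists_central_three P.isPGroup' hTP hT1 hTn
  have hwP : w ∈ (P : Subgroup G) := hTP hwT
  have hwX : w ∈ X := by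
    refine hcent (mem_inf.2 ⟨?_, hTP hwT⟩)
    rw [mem_centralizer_iff]
    intro y hy
    exact hwc y (hXP hy)
  have hXT1 : X ⊓ T ≠ ⊥ := by
    intro h
    have : w ∈ X ⊓ T := ⟨hwX, hwT⟩
    rw [h, mem_bot] at this
    exact hw1 this
  have hL : normalizer (X : Set G) ≤ L := h1 X hXP hXT hXT1
  have hcm : ∀ m ∈ normalizer (X : Set G), ∀ x ∈ X, m * x * m⁻¹ ∈ X := fun m hm x hx =>
    (mem_normalizer_iff.1 hm x).1 hx
  by_cases hnM : n ∈ M
  · intro x hx
    exact h4 n ⟨hL hn, hnM⟩ x (hXP hx) (hXP (hcm n hn x hx))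
  obtain ⟨v, hv⟩ : ∃ v, v = n * w * n⁻¹ := ⟨_, rfl⟩
  have hvX : v ∈ X := hv ▸ hcm n hn w hwX
  have hvP : v ∈ (P : Subgroup G) := hXP hvX
  have hvT : v ∉ T := fun h => hnM (h3 w hwT hw1 n (hv ▸ h))
  have hwv : w * v = v * w := (hwc v hvP).symm
  have hv3 : v ^ 3 = 1 := by
    rw [hv, conj_pow, hw3]; simp
  have hv1 : v ≠ 1 := fun h => hvT (h ▸ T.one_mem)
  -- the quotient `P/T`
  have hTnorm : (T.subgroupOf (P : Subgroup G)).Normal := by
    constructor
    rintro ⟨c, hc⟩ hc' ⟨g, hg⟩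
    simp only [mem_subgroupOf] at hc' ⊢
    exact hTn g hg c hc'
  have hqc : Nat.card ((P : Subgroup G) ⧸ T.subgroupOf (P : Subgroup G)) = 3 := hT3
  have hdiv : ∀ x ∈ (P : Subgroup G), ∃ j : ℕ, x * v ^ j ∈ T := by
    intro x hx
    have hne : (QuotientGroup.mk (⟨v, hvP⟩ : (P : Subgroup G)) :
        (P : Subgroup G) ⧸ T.subgroupOf (P : Subgroup G)) ≠ 1 := by
      intro h
      rw [QuotientGroup.eq_one_iff, mem_subgroupOf] at h
      exact hvT h
    have := mem_powers_of_prime_card (p := 3) hqc (g' := (QuotientGroup.mk (⟨x, hx⟩ : (P : Subgroup G)) :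
        (P : Subgroup G) ⧸ T.subgroupOf (P : Subgroup G))⁻¹) hne
    obtain ⟨j, hj⟩ := this
    refine ⟨j, ?_⟩
    have h2 : (QuotientGroup.mk (⟨x, hx⟩ * ⟨v, hvP⟩ ^ j : (P : Subgroup G)) :
        (P : Subgroup G) ⧸ T.subgroupOf (P : Subgroup G)) = 1 := by
      rw [QuotientGroup.mk_mul, QuotientGroup.mk_pow]
      simp only at hj
      rw [hj, mul_inv_cancel]
    rw [QuotientGroup.eq_one_iff, mem_subgroupOf] at h2
    exact h2
  have hcommT : ∀ x ∈ (P : Subgroup G), ∀ y ∈ (P : Subgroup G), x⁻¹ * (y * x * y⁻¹) ∈ T := by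
    intro x hx y hy
    have hcomm : ∀ a b : (P : Subgroup G) ⧸ T.subgroupOf (P : Subgroup G), a * b = b * a := by
      have := isCyclic_of_prime_card (p := 3) hqc
      exact fun a b => IsCyclic.isMulCommutative.is_comm.comm a b
    have h2 : (QuotientGroup.mk ((⟨x, hx⟩ : (P : Subgroup G))⁻¹ * (⟨y, hy⟩ * ⟨x, hx⟩ * ⟨y, hy⟩⁻¹) :
        (P : Subgroup G)) : (P : Subgroup G) ⧸ T.subgroupOf (P : Subgroup G)) = 1 := by
      simp only [QuotientGroup.mk_mul, QuotientGroup.mk_inv]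
      rw [hcomm (QuotientGroup.mk ⟨y, hy⟩) (QuotientGroup.mk ⟨x, hx⟩)]
      group
    rw [QuotientGroup.eq_one_iff, mem_subgroupOf] at h2
    exact h2
  -- elements of `T` whose conjugate is in `P` are powers of `w`
  have hkey : ∀ u ∈ T, n * u * n⁻¹ ∈ (P : Subgroup G) → ∃ k : ℕ, u = w ^ k ∧ k < 3 := by
    intro u hu hu'
    obtain ⟨j, hj⟩ := hdiv _ hu'
    have e : n * u * n⁻¹ * v ^ j = n * (u * w ^ j) * n⁻¹ := by
      rw [hv, conj_pow]; group
    rw [e] at hj
    have h6 : u * w ^ j = 1 := by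
      by_contra hne
      exact hnM (h3 _ (T.mul_mem hu (T.pow_mem hwT j)) hne n hj)
    have h7 : u = (w ^ j)⁻¹ := eq_inv_of_mul_eq_one_left h6
    have h8 : u = w ^ (2 * j) := by
      rw [h7, inv_eq_iff_mul_eq_one, ← pow_add]
      have : j + 2 * j = 3 * j := by ring
      rw [this, pow_mul, hw3, one_pow]
    refine ⟨(2 * j) % 3, ?_, Nat.mod_lt _ (by norm_num)⟩
    rw [h8]
    conv_lhs => rw [← Nat.div_add_mod (2 * j) 3, pow_add, pow_mul, hw3, one_pow, one_mul]
  have hcommute : Commute w v := hwv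
  -- `X = P`
  by_cases hXeq : X = (P : Subgroup G)
  · exfalso
    subst hXeq
    have hTw : T = zpowers w := by
      apply le_antisymm
      · intro u hu
        obtain ⟨k, hk, -⟩ := hkey u hu (hcm n hn u (hTP hu))
        rw [hk]; exact pow_mem (mem_zpowers w) k
      · rwa [zpowers_le]
    apply hfin
    refine ⟨?_, ?_⟩
    · have e1 := relIndex_mul_relIndex ⊥ T (P : Subgroup G) bot_le hTP
      rw [relIndex_bot_left, relIndex_bot_left, hT3, hTw, Nat.card_zpowers,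
        orderOf_eq_prime hw3 hw1] at e1
      exact e1.symm
    · intro x hx
      obtain ⟨j, hj⟩ := hdiv x hx
      rw [hTw] at hj
      obtain ⟨i, hi⟩ := mem_zpowers_iff.1 hj
      have : x = w ^ i * (v ^ j)⁻¹ := by rw [hi]; group
      rw [this]
      have hc1 : Commute (w ^ i) ((v ^ j)⁻¹) := ((hcommute.zpow_left i).pow_right j).inv_right
      rw [hc1.mul_pow, inv_pow, ← pow_mul, mul_comm j 3, pow_mul, hv3, one_pow, inv_one, mul_one,
        ← zpow_natCast, ← zpow_mul, mul_comm, zpow_mul]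
      have : w ^ ((3 : ℕ) : ℤ) = 1 := by rw [zpow_natCast]; exact hw3
      rw [this, one_zpow]
  have hXlt : X < P := lt_of_le_of_ne hXP hXeq
  -- `A = Ω₁(Z(X))`
  obtain ⟨A, hA⟩ : ∃ A : Set G, ∀ a, a ∈ A ↔ (a ∈ X ∧ (∀ y ∈ X, a * y = y * a) ∧ a ^ 3 = 1) :=
    ⟨{a | a ∈ X ∧ (∀ y ∈ X, a * y = y * a) ∧ a ^ 3 = 1}, fun a => Iff.rfl⟩
  have hAn : ∀ m ∈ normalizer (X : Set G), ∀ a ∈ A, m * a * m⁻¹ ∈ A := by
    intro m hm a ha
    rw [hA] at ha ⊢
    refine ⟨hcm m hm a ha.1, ?_, ?_⟩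
    · intro y hy
      have h6 : m⁻¹ * y * m ∈ X := by
        have := hcm m⁻¹ (inv_mem hm) y hy
        simpa using this
      have h7 := ha.2.1 _ h6
      have h8 : m * a * m⁻¹ * y = m * (a * (m⁻¹ * y * m)) * m⁻¹ := by group
      rw [h8, h7]; group
    · rw [conj_pow, ha.2.2]; simp
  have hwA : w ∈ A := (hA w).2 ⟨hwX, fun y hy => (hwc y (hXP hy)).symm, hw3⟩
  have hvA : v ∈ A := hv ▸ hAn n hn w hwA
  have hAmul : ∀ a ∈ A, ∀ b ∈ A, a * b ∈ A := by
    intro a ha b hb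
    rw [hA] at ha hb ⊢
    refine ⟨X.mul_mem ha.1 hb.1, ?_, ?_⟩
    · intro y hy
      rw [mul_assoc, hb.2.1 y hy, ← mul_assoc, ha.2.1 y hy, mul_assoc]
    · have : Commute a b := ha.2.1 b hb.1
      rw [this.mul_pow, ha.2.2, hb.2.2, one_mul]
  have hAinv : ∀ a ∈ A, a⁻¹ ∈ A := by
    intro a ha
    rw [hA] at ha ⊢
    refine ⟨X.inv_mem ha.1, ?_, ?_⟩
    · intro y hy
      have : Commute a y := ha.2.1 y hy
      exact this.inv_left
    · rw [inv_pow, ha.2.2, inv_one]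
  have hApow : ∀ a ∈ A, ∀ j : ℕ, a ^ j ∈ A := by
    intro a ha j
    rw [hA] at ha ⊢
    refine ⟨X.pow_mem ha.1 _, ?_, ?_⟩
    · intro y hy
      have : Commute a y := ha.2.1 y hy
      exact this.pow_left _
    · rw [← pow_mul, mul_comm, pow_mul, ha.2.2, one_pow]
  have hAT : ∀ a ∈ A, a ∈ T → ∃ k : ℕ, a = w ^ k ∧ k < 3 := by
    intro a ha haT
    exact hkey a haT (hXP (hcm n hn a ((hA a).1 ha).1))
  have hAgen : ∀ a ∈ A, ∃ k j : ℕ, a = w ^ k * (v ^ j)⁻¹ ∧ k < 3 := by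
    intro a ha
    obtain ⟨j, hj⟩ := hdiv a (hXP ((hA a).1 ha).1)
    obtain ⟨k, hk, hk3⟩ := hAT _ (hAmul a ha _ (hApow v hvA j)) hj
    exact ⟨k, j, by rw [← hk]; group, hk3⟩
  by_cases hcA : ∀ y ∈ (P : Subgroup G) ⊓ normalizer (X : Set G), y * v = v * y
  · -- Frattini
    have hQC : (P : Subgroup G) ⊓ normalizer (X : Set G) ≤ centralizer A ⊓ normalizer (X : Set G) := by
      intro y hy
      refine mem_inf.2 ⟨?_, (mem_inf.1 hy).2⟩
      rw [mem_centralizer_iff]
      intro a ha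
      obtain ⟨k, j, rfl, -⟩ := hAgen a ha
      have c1 : Commute w y := (hwc y (mem_inf.1 hy).1).symm
      have c2 : Commute v y := (hcA y hy).symm
      exact ((c1.pow_left k).mul_left (c2.pow_left j).inv_left)
    obtain ⟨c, hc, hcn⟩ := frattini_in (p := 3) (N := normalizer (X : Set G))
      (C := centralizer A ⊓ normalizer (X : Set G)) (P.isPGroup'.to_le inf_le_left) hfull hQC
      inf_le_right (by
        intro m hm c hc
        rw [mem_inf] at hc ⊢
        refine ⟨?_, mul_mem (mul_mem hm hc.2) (inv_mem hm)⟩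
        rw [mem_centralizer_iff]
        intro a ha
        have h6 : m⁻¹ * a * m ∈ A := by
          have := hAn m⁻¹ (inv_mem hm) a ha
          simpa using this
        have h7 := mem_centralizer_iff.1 hc.1 _ h6
        have h8 : a * (m * c * m⁻¹) = m * (m⁻¹ * a * m * c) * m⁻¹ := by group
        rw [h8, h7]; group) hn
    rw [mem_inf] at hc
    have hcw : c * w * c⁻¹ = w := by
      rw [← mem_centralizer_iff.1 hc.1 w hwA]; group
    have hcM : c ∈ M := h3 w hwT hw1 c (by rw [hcw]; exact hwT)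
    have hIc : Inv T X c := by
      intro x hx
      exact h4 c ⟨hL hc.2, hcM⟩ x (hXP hx) (hXP (hcm c hc.2 x hx))
    have hXQ : X < (P : Subgroup G) ⊓ normalizer (X : Set G) := lt_inf_normalizer P.isPGroup' hXlt
    have hcard : Nat.card X < Nat.card ((P : Subgroup G) ⊓ normalizer (X : Set G) : Subgroup G) :=
      Set.Finite.card_lt_card (Set.toFinite _) hXQ
    have hIcn : Inv T X (c * n) := by
      refine (big _ inf_le_left hcard (c * n) ?_).mono hXQ.le
      rw [mem_normalizer_iff_map_conj.1 hcn]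
      exact inf_le_left
    have e : n = c⁻¹ * (c * n) := by group
    rw [e]
    refine hIcn.mul ?_
    rw [mem_normalizer_iff_map_conj.1 (mul_mem hc.2 hn)]
    exact hIc.inv hc.2
  · -- transvections
    exfalso
    push Not at hcA
    obtain ⟨y, hy, hyv⟩ := hcA
    rw [mem_inf] at hy
    have hyw : y * w * y⁻¹ = w := by rw [hwc y hy.1]; group
    -- normalise `y`
    obtain ⟨y₁, hy₁, hy₁w, hy₁v⟩ : ∃ y₁ ∈ normalizer (X : Set G), y₁ * w * y₁⁻¹ = w ∧
        y₁ * v * y₁⁻¹ = v * w := by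
      have h6 : v⁻¹ * (y * v * y⁻¹) ∈ T := hcommT v hvP y hy.1
      obtain ⟨k, hk, hk3⟩ := hAT _ (hAmul _ (hAinv v hvA) _ (hAn y hy.2 v hvA)) h6
      have h7 : y * v * y⁻¹ = v * w ^ k := by rw [← hk]; group
      interval_cases k
      · exfalso
        apply hyv
        rw [pow_zero, mul_one] at h7
        rwa [mul_inv_eq_iff_eq_mul] at h7
      · exact ⟨y, hy.2, hyw, by rw [h7, pow_one]⟩
      · refine ⟨y * y, mul_mem hy.2 hy.2, ?_, ?_⟩
        · have : y * y * w * (y * y)⁻¹ = y * (y * w * y⁻¹) * y⁻¹ := by group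
          rw [this, hyw, hyw]
        · have e1 : y * y * v * (y * y)⁻¹ = y * (y * v * y⁻¹) * y⁻¹ := by group
          have e2 : y * (v * w ^ 2) * y⁻¹ = (y * v * y⁻¹) * ((y * w * y⁻¹) * (y * w * y⁻¹)) := by
            rw [pow_two]; group
          rw [e1, h7, e2, h7, hyw]
          have e3 : v * w ^ 2 * (w * w) = v * w ^ 3 * w := by
            rw [pow_succ w 2]; simp only [mul_assoc]
          rw [e3, hw3, mul_one]
    obtain ⟨y', hy'⟩ : ∃ y', y' = n * y₁ * n⁻¹ := ⟨_, rfl⟩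
    have hy'N : y' ∈ normalizer (X : Set G) := hy' ▸ mul_mem (mul_mem hn hy₁) (inv_mem hn)
    have hy'v : y' * v * y'⁻¹ = v := by
      have : y' * v * y'⁻¹ = n * (y₁ * w * y₁⁻¹) * n⁻¹ := by rw [hy', hv]; group
      rw [this, hy₁w, hv]
    obtain ⟨v', hv'⟩ : ∃ v', v' = n * v * n⁻¹ := ⟨_, rfl⟩
    have hy'v' : y' * v' * y'⁻¹ = v' * v := by
      have : y' * v' * y'⁻¹ = n * (y₁ * v * y₁⁻¹) * n⁻¹ := by rw [hy', hv']; group
      rw [this, hy₁v, hv']
      nth_rw 3 [hv]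
      group
    obtain ⟨k, j, hkj, hk3⟩ := hAgen v' (hv' ▸ hAn n hn v hvA)
    have c1 : MulAut.conj y' v = v := hy'v
    have c2 : MulAut.conj y' v' = v' * v := hy'v'
    have hcv : Commute v v := Commute.refl v
    have h9 : (MulAut.conj y' w) ^ k = w ^ k * v := by
      rw [hkj, map_mul, map_inv, map_pow, map_pow, c1] at c2
      have h10 : w ^ k * (v ^ j)⁻¹ * v = w ^ k * v * (v ^ j)⁻¹ := by
        rw [mul_assoc, mul_assoc]
        congr 1
        exact ((hcv.pow_left j).inv_left).eq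
      rw [h10] at c2
      exact mul_right_cancel c2
    obtain ⟨z, hz, hzv, hzw⟩ : ∃ z ∈ normalizer (X : Set G), z * v * z⁻¹ = v ∧
        z * w * z⁻¹ = w * v⁻¹ := by
      have hv2 : v⁻¹ = v * v := by
        rw [inv_eq_iff_mul_eq_one, ← mul_assoc, ← pow_three']
        exact hv3
      interval_cases k
      · exfalso
        rw [pow_zero, pow_zero, one_mul] at h9
        exact hv1 h9.symm
      · rw [pow_one, pow_one] at h9
        have c3 : y' * w * y'⁻¹ = w * v := h9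
        refine ⟨y' * y', mul_mem hy'N hy'N, ?_, ?_⟩
        · have : y' * y' * v * (y' * y')⁻¹ = y' * (y' * v * y'⁻¹) * y'⁻¹ := by group
          rw [this, hy'v, hy'v]
        · have e1 : y' * y' * w * (y' * y')⁻¹ = y' * (y' * w * y'⁻¹) * y'⁻¹ := by group
          have e2 : y' * (w * v) * y'⁻¹ = (y' * w * y'⁻¹) * (y' * v * y'⁻¹) := by group
          rw [e1, c3, e2, c3, hy'v, hv2, mul_assoc]
      · refine ⟨y', hy'N, hy'v, ?_⟩
        have c4 : (MulAut.conj y' w) ^ 3 = 1 := by rw [← map_pow, hw3, map_one]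
        have c5 : MulAut.conj y' w = w * v⁻¹ := by
          have e1 : MulAut.conj y' w = (MulAut.conj y' w) ^ 3 * MulAut.conj y' w := by
            rw [c4, one_mul]
          have e2 : (MulAut.conj y' w) ^ 3 * MulAut.conj y' w =
              (MulAut.conj y' w) ^ 2 * (MulAut.conj y' w) ^ 2 := by
            rw [← pow_succ, ← pow_add]
          rw [e1, e2, h9]
          have e3 : w ^ 2 * v * (w ^ 2 * v) = w ^ 3 * w * (v * v) := by
            have : v * w ^ 2 = w ^ 2 * v := (hcommute.pow_left 2).eq.symm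
            calc w ^ 2 * v * (w ^ 2 * v) = w ^ 2 * (v * w ^ 2) * v := by group
              _ = w ^ 2 * (w ^ 2 * v) * v := by rw [this]
              _ = w ^ 3 * w * (v * v) := by
                rw [← pow_succ, ← mul_assoc, ← mul_assoc, ← pow_add]
          rw [e3, hw3, one_mul, hv2]
        exact c5
    have hfinal := inverting_aux hwv hy₁w hy₁v hzv hzw
    have hmem : y₁ * z * y₁ * (y₁ * z * y₁) ∈ normalizer (X : Set G) :=
      mul_mem (mul_mem (mul_mem hy₁ hz) hy₁) (mul_mem (mul_mem hy₁ hz) hy₁)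
    exact h5 w hwT hw1 _ (hL hmem) hfinal

end T3a

end Cfsg.Agent.H350.Fix
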