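import Mathlib
import Cfsg.Agent.H350.FixBase
import Cfsg.Agent.H350.FixThree

/-!
# Fixity: strongly `p`-embedded stabilizers
-/

set_option autoImplicit false

namespace Cfsg.Agent.H350.Fix

open Subgroup Cfsg.Agent.Lib.GoldschmidtFusion

variable {G Ω : Type*} [Group G] [Finite G] [MulAction G Ω]

theorem exists_orderOf_of_dvd {p : ℕ} [Fact p.Prime] {H : Subgroup G} (h : p ∣ Nat.card H) :
    ∃ y ∈ H, orderOf y = p := by
  obtain ⟨y, hy⟩ := exists_prime_orderOf_dvd_card' p h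
  exact ⟨y, y.2, by rw [Subgroup.orderOf_coe]; exact hy⟩

omit [Finite G] in
theorem exists_mem_ne_one {H : Subgroup G} (h : H ≠ ⊥) : ∃ x ∈ H, x ≠ 1 := by
  obtain ⟨⟨x, hx⟩, hx1⟩ := ne_bot_iff_exists_ne_one.1 h
  exact ⟨x, hx, fun h => hx1 (Subtype.ext h)⟩

omit [Finite G] in
theorem isPGroup_zpowers_of_orderOf {p : ℕ} {y : G} {n : ℕ} (h : orderOf y = p ^ n) :
    IsPGroup p (zpowers y) := IsPGroup.of_card (by rw [Nat.card_zpowers, h])

omit [Finite G] in
theorem isPGroup_zpowers_of_mem {p : ℕ} {P : Subgroup G} (hP : IsPGroup p P) {y : G} (hy : y ∈ P) :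
    IsPGroup p (zpowers y) := hP.to_le (by rwa [zpowers_le])

/-- Sylow conjugacy inside a subgroup containing `P` -/
theorem exists_conj_mem {p : ℕ} [Fact p.Prime] (P : Sylow p G) {H : Subgroup G}
    (_hPH : (P : Subgroup G) ≤ H) {y : G} (hy : y ∈ H) (hyp : IsPGroup p (zpowers y)) :
    ∃ h ∈ H, h * y * h⁻¹ ∈ (P : Subgroup G) := by
  have h1 : ¬ p ∣ (P : Subgroup G).relIndex H := by
    intro h
    have h2 := relIndex_mul_index _hPH
    exact P.not_dvd_index (h2 ▸ (h.trans (Dvd.intro _ rfl)))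
  obtain ⟨n, hn, hle⟩ := exists_conj_le_in (p := p) P.isPGroup' h1
    (D := zpowers y) (by rwa [zpowers_le]) hyp
  exact ⟨n, hn, hle (conj_mem_map_conj (mem_zpowers y) n)⟩

theorem strongly_emb [FaithfulSMul G Ω] (htrans : MulAction.IsPretransitive G Ω) {p : ℕ}
    [Fact p.Prime] (P : Sylow p G) (hp : p ∣ Nat.card G) (Δ : Set Ω) (hne : Δ.Nonempty)
    (h : ∀ x ∈ (P : Subgroup G), x ≠ 1 → MulAction.fixedBy Ω x = Δ) :
    mst G Δ ≠ ⊤ ∧ p ∣ Nat.card (mst G Δ) ∧ ∀ g : G, g ∉ mst G Δ →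
      ¬ p ∣ Nat.card ↥(mst G Δ ⊓ (mst G Δ).map (MulAut.conj g).toMonoidHom) := by
  have hP1 : (P : Subgroup G) ≠ ⊥ := P.ne_bot_of_dvd_card hp
  obtain ⟨x, hxP, hx1⟩ := exists_mem_ne_one hP1
  have hPM : (P : Subgroup G) ≤ mst G Δ := by
    intro g hg
    refine mem_mst_of_fixedBy (h x hxP hx1) (h _ (mul_mem (mul_mem hg hxP) (inv_mem hg)) ?_)
    intro h1
    apply hx1
    have : x = g⁻¹ * (g * x * g⁻¹) * g := by group
    rw [this, h1]; simp
  have key : ∀ y ∈ mst G Δ, orderOf y = p → MulAction.fixedBy Ω y = Δ := by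
    intro y hy hyo
    obtain ⟨k, hk, hkP⟩ := exists_conj_mem P hPM hy
      (isPGroup_zpowers_of_orderOf (n := 1) (by rw [pow_one]; exact hyo))
    have h1 : k * y * k⁻¹ ≠ 1 := by
      intro h1
      have : y = 1 := by
        have : y = k⁻¹ * (k * y * k⁻¹) * k := by group
        rw [this, h1]; simp
      rw [this, orderOf_one] at hyo
      exact (Fact.out : p.Prime).one_lt.ne hyo
    have h2 := h _ hkP h1
    ext a
    have h3 := fixedBy_conj (Ω := Ω) k y (k • a)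
    rw [inv_smul_smul] at h3
    rw [← h3, h2]
    exact hk a
  refine ⟨?_, ?_, ?_⟩
  · intro htop
    obtain ⟨y, hy⟩ := hne
    apply hx1
    apply FaithfulSMul.eq_of_smul_eq_smul (α := Ω)
    intro z
    rw [one_smul]
    obtain ⟨g, rfl⟩ := htrans.exists_smul_eq y z
    have h1 : g ∈ mst G Δ := htop ▸ mem_top g
    have h2 : g • y ∈ Δ := (h1 y).2 hy
    rw [← h x hxP hx1] at h2
    exact h2
  · obtain ⟨k, hk⟩ := IsPGroup.iff_card.1 P.isPGroup'
    rcases Nat.eq_zero_or_pos k with h0 | h0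
    · exfalso
      rw [h0, pow_zero] at hk
      exact hP1 (eq_bot_of_card_eq _ hk)
    · have h1 : p ∣ Nat.card (P : Subgroup G) := hk ▸ dvd_pow_self p h0.ne'
      exact h1.trans (card_dvd_of_le hPM)
  · intro g hg hdvd
    obtain ⟨y, hy, hyo⟩ := exists_orderOf_of_dvd hdvd
    rw [mem_inf] at hy
    have h1 := key y hy.1 hyo
    have h2 : g⁻¹ * y * g ∈ mst G Δ := mem_map_conj.1 hy.2
    have h3 : orderOf (g⁻¹ * y * g) = p := by
      rw [← hyo]
      have := (MulAut.conj g⁻¹).orderOf_eq y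
      simpa using this
    have h4 := key _ h2 h3
    apply hg
    rw [← inv_mem_iff]
    refine mem_mst_of_fixedBy h1 ?_
    rw [inv_inv]; exact h4

end Cfsg.Agent.H350.Fix
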