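import Mathlib
import Cfsg.Agent.H350.FixSE

/-!
# Fixity 4, involutions without fixed points: the prime 3
-/

set_option autoImplicit false

namespace Cfsg.Agent.H350.Fix

open Subgroup Cfsg.Agent.Lib.GoldschmidtFusion

variable {G Ω : Type*} [Group G] [Finite G] [MulAction G Ω]

theorem card_mul_le_of_disjoint {A B D : Subgroup G} (hA : A ≤ D) (hB : B ≤ D) (h : A ⊓ B = ⊥) :
    Nat.card A * Nat.card B ≤ Nat.card D := by
  rw [← Nat.card_prod]
  refine Nat.card_le_card_of_injective (fun x : A × B => (⟨x.1 * x.2, D.mul_mem (hA x.1.2) (hB x.2.2)⟩ : D)) ?_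
  rintro ⟨a, b⟩ ⟨a', b'⟩ h1
  have h2 : (a : G) * b = a' * b' := congrArg Subtype.val h1
  exact mul_injective_of_disjoint (disjoint_iff.2 h) h2

omit [Finite G] in
theorem card_mul_relIndex' {N K : Subgroup G} (hN : N ≤ K) :
    Nat.card N * N.relIndex K = Nat.card K := by
  have h := relIndex_mul_relIndex ⊥ N K bot_le hN
  rwa [relIndex_bot_left, relIndex_bot_left] at h

theorem card_lt_of_lt {N K : Subgroup G} (h : N < K) : Nat.card N < Nat.card K :=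
  Set.Finite.card_lt_card (Set.toFinite _) h

theorem card_le_of_le' {N K : Subgroup G} (h : N ≤ K) : Nat.card N ≤ Nat.card K :=
  Nat.card_le_card_of_injective _ (inclusion_injective h)

theorem relIndex_dvd_three {D T : Subgroup G} (hD : IsPGroup 3 D) (hTD : T ≤ D)
    (h : T.relIndex D ∣ Nat.factorial 3) : T.relIndex D ∣ 3 := by
  obtain ⟨k, hk⟩ := IsPGroup.iff_card.1 hD
  have h1 : T.relIndex D ∣ 3 ^ k := by
    rw [← hk, ← card_mul_relIndex' hTD]; exact Dvd.intro_left _ rfl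
  have h2 : Nat.Coprime (T.relIndex D) 2 :=
    Nat.Coprime.coprime_dvd_left h1 (Nat.Coprime.pow_left k (by norm_num))
  have h3 : T.relIndex D ∣ 2 * 3 := h
  exact h2.dvd_of_dvd_mul_left h3

theorem three_orbit {Γ : Set Ω} [Finite Ω] (hΓ : Γ.ncard = 3) {d : G} (hd3 : d ^ 3 = 1)
    (hd : ∀ x ∈ Γ, d • x ∈ Γ) (hne : ∃ x ∈ Γ, d • x ≠ x) :
    ∀ x ∈ Γ, ∀ y ∈ Γ, ∃ i : ℕ, d ^ i • x = y := by
  obtain ⟨x₀, hx₀, hx₀'⟩ := hne
  have h3 : d • d • d • x₀ = x₀ := by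
    rw [smul_smul, smul_smul]
    have : d * (d * d) = d ^ 3 := by rw [pow_succ', pow_two]
    rw [← mul_assoc] at this
    rw [this, hd3, one_smul]
  have h1 : d • d • x₀ ≠ d • x₀ := fun h => hx₀' (MulAction.injective d h)
  have h2 : d • d • x₀ ≠ x₀ := by
    intro h
    rw [h] at h3
    exact hx₀' h3
  have hset : ({x₀, d • x₀, d • d • x₀} : Set Ω) = Γ := by
    refine Set.eq_of_subset_of_ncard_le ?_ ?_ (Set.toFinite _)
    · intro y hy
      simp only [Set.mem_insert_iff, Set.mem_singleton_iff] at hy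
      rcases hy with rfl | rfl | rfl
      · exact hx₀
      · exact hd _ hx₀
      · exact hd _ (hd _ hx₀)
    · rw [hΓ, Set.ncard_eq_three.2 ⟨x₀, d • x₀, d • d • x₀, hx₀'.symm, h2.symm, h1.symm, rfl⟩]
  have key : ∀ y ∈ Γ, ∃ i : ℕ, d ^ i • x₀ = y := by
    intro y hy
    rw [← hset] at hy
    simp only [Set.mem_insert_iff, Set.mem_singleton_iff] at hy
    rcases hy with rfl | rfl | rfl
    · exact ⟨0, by rw [pow_zero, one_smul]⟩
    · exact ⟨1, by rw [pow_one]⟩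
    · exact ⟨2, by rw [pow_two, mul_smul]⟩
  intro x hx y hy
  obtain ⟨i, hi⟩ := key x hx
  obtain ⟨j, hj⟩ := key y hy
  refine ⟨j + 2 * i, ?_⟩
  rw [← hi, smul_smul, ← pow_add]
  have : j + 2 * i + i = j + 3 * i := by ring
  rw [this, pow_add, pow_mul, hd3, one_pow, mul_one, hj]

theorem subcaseB [Finite Ω] {P : Sylow 3 G} {Δ Γ : Set Ω} {T : Subgroup G}
    (hT : T = (P : Subgroup G) ⊓ kst G Δ) (hT1 : T ≠ ⊥)
    (hfix : ∀ x ∈ T, x ≠ 1 → MulAction.fixedBy Ω x = Δ)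
    (hΓΔ : Γ ⊆ Δ) (hΓ : Γ.ncard = 3) (hΔ4 : Δ.ncard ≤ 4)
    (hpres : ∀ g ∈ (P : Subgroup G) ⊓ mst G Δ, ∀ x ∈ Γ, g • x ∈ Γ)
    (hker : ∀ g ∈ (P : Subgroup G) ⊓ mst G Δ, g ∈ T ↔ ∀ x ∈ Γ, g • x = x)
    (hodd : ∀ a : Ω, Odd (Nat.card (MulAction.stabilizer G a)))
    (hPM : ¬ (P : Subgroup G) ≤ mst G Δ) :
    Nat.card T = 3 ∧ 27 ≤ Nat.card P ∧ ∃ s ∈ T, s ≠ 1 ∧ orderOf s = 3 ∧
      ∀ g : G, g * s * g⁻¹ ≠ s⁻¹ := by
  have hPp : IsPGroup 3 (P : Subgroup G) := P.isPGroup'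
  obtain ⟨D, hD⟩ : ∃ D : Subgroup G, D = (P : Subgroup G) ⊓ mst G Δ := ⟨_, rfl⟩
  rw [← hD] at hpres hker
  have hDP : D < P := by
    refine lt_of_le_of_ne (hD ▸ inf_le_left) ?_
    intro h
    apply hPM
    rw [← h, hD]; exact inf_le_right
  have hTD : T ≤ D := by
    rw [hT, hD]; exact inf_le_inf_left _ (kst_le_mst Δ)
  have hDp : IsPGroup 3 D := hPp.to_le hDP.le
  have hDnT : ∀ g ∈ D, ∀ x ∈ T, g * x * g⁻¹ ∈ T := by
    intro g hg x hx
    rw [hD, mem_inf] at hg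
    rw [hT, mem_inf] at hx ⊢
    exact ⟨mul_mem (mul_mem hg.1 hx.1) (inv_mem hg.1), mst_kst_normal hg.2 hx.2⟩
  have h1 := lt_inf_normalizer hPp hDP
  obtain ⟨g, hg, hgD⟩ := SetLike.exists_of_lt h1
  rw [mem_inf] at hg
  have hgM : g ∉ mst G Δ := fun h => hgD (by rw [hD]; exact mem_inf.2 ⟨hg.1, h⟩)
  have hgn : ∀ x ∈ D, g * x * g⁻¹ ∈ D := fun x hx => (mem_normalizer_iff.1 hg.2 x).1 hx
  have hgn' : ∀ x ∈ D, g⁻¹ * x * g ∈ D := fun x hx => by
    have := (mem_normalizer_iff.1 (inv_mem hg.2) x).1 hx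
    simpa using this
  obtain ⟨T', hT'⟩ : ∃ T' : Subgroup G, T' = T.map (MulAut.conj g).toMonoidHom := ⟨_, rfl⟩
  have hT'D : T' ≤ D := by
    rw [hT']
    rintro _ ⟨x, hx, rfl⟩
    exact hgn x (hTD hx)
  have hmemT' : ∀ x, x ∈ T' ↔ g⁻¹ * x * g ∈ T := fun x => by rw [hT', mem_map_conj]
  have hTT' : T ⊓ T' = ⊥ := by
    rw [eq_bot_iff]
    intro u hu
    rw [mem_inf, hmemT'] at hu
    rw [mem_bot]
    by_contra hu1
    have h2 : g⁻¹ * u * g ≠ 1 := by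
      intro h2
      apply hu1
      have : u = g * (g⁻¹ * u * g) * g⁻¹ := by group
      rw [this, h2]; simp
    apply hgM
    rw [← inv_mem_iff]
    refine mem_mst_of_fixedBy (hfix u hu.1 hu1) ?_
    rw [inv_inv]
    exact hfix _ hu.2 h2
  have hDnT' : ∀ k ∈ D, ∀ x ∈ T', k * x * k⁻¹ ∈ T' := by
    intro k hk x hx
    rw [hmemT'] at hx ⊢
    have := hDnT _ (hgn' k hk) _ hx
    have e : g⁻¹ * k * g * (g⁻¹ * x * g) * (g⁻¹ * k * g)⁻¹ = g⁻¹ * (k * x * k⁻¹) * g := by group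
    rwa [e] at this
  have hcardT' : Nat.card T' = Nat.card T := by rw [hT', card_map_conj]
  have hrel : T.relIndex D ∣ 3 := relIndex_dvd_three hDp hTD (relIndex_dvd_factorial hΓ hpres hker)
  have hcD := card_mul_relIndex' hTD
  have hcm := card_mul_le_of_disjoint hTD hT'D hTT'
  rw [hcardT'] at hcm
  have hrel3 : T.relIndex D ≤ 3 := Nat.le_of_dvd (by norm_num) hrel
  have hTpos : 0 < Nat.card T := Nat.card_pos
  have hT3le : Nat.card T ≤ 3 := by
    have h2 : Nat.card T * Nat.card T ≤ Nat.card T * 3 := by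
      refine hcm.trans ?_
      rw [← hcD]
      exact Nat.mul_le_mul_left _ hrel3
    exact Nat.le_of_mul_le_mul_left h2 hTpos
  have hT3 : Nat.card T = 3 := by
    obtain ⟨k, hk⟩ := IsPGroup.iff_card.1 (hDp.to_le hTD)
    rcases Nat.eq_zero_or_pos k with h0 | h0
    · rw [h0, pow_zero] at hk
      exact absurd (eq_bot_of_card_eq _ hk) hT1
    · have h2 : 3 ^ 1 ≤ 3 ^ k := Nat.pow_le_pow_right (by norm_num) h0
      omega
  have hP27 : 27 ≤ Nat.card P := by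
    obtain ⟨m, hm⟩ := IsPGroup.iff_card.1 hPp
    have h2 := card_lt_of_lt hDP
    rw [hT3] at hcm
    by_contra hcon
    have hm3 : m < 3 := by
      by_contra h3
      have h4 : 3 ^ 3 ≤ 3 ^ m := Nat.pow_le_pow_right (by norm_num) (not_lt.1 h3)
      omega
    interval_cases m <;> omega
  obtain ⟨s, hsT, hs1⟩ := exists_mem_ne_one hT1
  have hs3 : orderOf s = 3 := by
    have h2 : orderOf (⟨s, hsT⟩ : T) ∣ 3 := hT3 ▸ orderOf_dvd_natCard _
    rw [← Subgroup.orderOf_coe] at h2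
    rcases (Nat.dvd_prime Nat.prime_three).1 h2 with h3 | h3
    · exact absurd (orderOf_eq_one_iff.1 h3) hs1
    · exact h3
  refine ⟨hT3, hP27, s, hsT, hs1, hs3, ?_⟩
  -- the element `d`
  obtain ⟨d, hd⟩ : ∃ d, d = g * s * g⁻¹ := ⟨_, rfl⟩
  have hdT' : d ∈ T' := by
    rw [hmemT', hd]
    have : g⁻¹ * (g * s * g⁻¹) * g = s := by group
    rwa [this]
  have hd1 : d ≠ 1 := by
    intro h
    apply hs1
    have : s = g⁻¹ * d * g := by rw [hd]; group
    rw [this, h]; simp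
  have hdT : d ∉ T := by
    intro h
    have : d ∈ T ⊓ T' := mem_inf.2 ⟨h, hdT'⟩
    rw [hTT', mem_bot] at this
    exact hd1 this
  have hdD : d ∈ D := hT'D hdT'
  have hd3 : d ^ 3 = 1 := by
    rw [hd, conj_pow, ← hs3, pow_orderOf_eq_one]; simp
  have hds : d * s = s * d := by
    have h2 : s * d * s⁻¹ * d⁻¹ ∈ T ⊓ T' := by
      refine mem_inf.2 ⟨?_, mul_mem (hDnT' s (hTD hsT) d hdT') (inv_mem hdT')⟩
      have e : s * d * s⁻¹ * d⁻¹ = s * (d * s⁻¹ * d⁻¹) := by group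
      rw [e]
      exact mul_mem hsT (hDnT d hdD _ (inv_mem hsT))
    rw [hTT', mem_bot] at h2
    have h3 := mul_inv_eq_one.1 h2
    rw [mul_inv_eq_iff_eq_mul] at h3
    exact h3.symm
  have hne : ∃ x ∈ Γ, d • x ≠ x := by
    by_contra hcon
    push Not at hcon
    exact hdT ((hker d hdD).2 hcon)
  have horb := three_orbit hΓ hd3 (hpres d hdD) hne
  intro g' hg'
  have hg'M : g' ∈ mst G Δ := by
    refine mem_mst_of_fixedBy (hfix s hsT hs1) ?_
    rw [hg']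
    exact hfix _ (inv_mem hsT) (by rwa [Ne, inv_eq_one])
  have hex : ∃ x ∈ Γ, g' • x ∈ Γ := by
    by_contra hcon
    push Not at hcon
    have h2 : (fun x => g' • x) '' Γ ⊆ Δ \ Γ := by
      rintro _ ⟨x, hx, rfl⟩
      exact ⟨(hg'M x).2 (hΓΔ hx), hcon x hx⟩
    have h3 := Set.ncard_le_ncard h2
    rw [Set.ncard_image_of_injective _ (MulAction.injective g'), Set.ncard_sdiff hΓΔ, hΓ] at h3
    omega
  obtain ⟨x, hx, hgx⟩ := hex
  obtain ⟨i, hi⟩ := horb x hx _ hgx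
  have hstab : (d ^ i)⁻¹ * g' ∈ MulAction.stabilizer G x := by
    rw [MulAction.mem_stabilizer_iff, mul_smul, ← hi, inv_smul_smul]
  have hsstab : s ∈ MulAction.stabilizer G x := by
    rw [MulAction.mem_stabilizer_iff]
    have h2 := hΓΔ hx
    rw [← hfix s hsT hs1] at h2
    exact h2
  apply hs1
  refine odd_no_invert (hodd x) hstab hsstab ?_
  have e : (d ^ i)⁻¹ * g' * s * ((d ^ i)⁻¹ * g')⁻¹ = (d ^ i)⁻¹ * (g' * s * g'⁻¹) * d ^ i := by group
  rw [e, hg']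
  have hc : Commute d s := hds
  have hc2 : Commute (d ^ i) s⁻¹ := (hc.pow_left i).inv_right
  rw [mul_assoc, ← hc2.eq]; group

end Cfsg.Agent.H350.Fix
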