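import Mathlib
import Cfsg.Agent.H350.FixThreeB

/-!
# Subgroups of order 8 of `Sym(4)`
-/

set_option autoImplicit false

namespace Cfsg.Agent.H350.Fix

open Subgroup Cfsg.Agent.Lib.GoldschmidtFusion

theorem card_cent_tau : Nat.card (centralizer ({(Equiv.swap (0 : Fin 4) 2) * Equiv.swap 1 3} :
    Set (Equiv.Perm (Fin 4)))) = 8 := by
  have h : Nat.card {σ : Equiv.Perm (Fin 4) // σ * ((Equiv.swap (0 : Fin 4) 2) * Equiv.swap 1 3) =
      ((Equiv.swap (0 : Fin 4) 2) * Equiv.swap 1 3) * σ} = 8 := by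
    rw [Nat.card_eq_fintype_card]
    decide
  rw [← h]
  refine Nat.card_congr (Equiv.subtypeEquivRight ?_)
  intro σ
  exact mem_centralizer_singleton_iff

theorem conj_comm_aux {X : Type*} [Group X] (g a b : X)
    (h : g * a * g⁻¹ * (g * b * g⁻¹) = g * b * g⁻¹ * (g * a * g⁻¹)) : a * b = b * a := by
  have h1 : g * (a * b) * g⁻¹ = g * (b * a) * g⁻¹ := by
    calc g * (a * b) * g⁻¹ = g * a * g⁻¹ * (g * b * g⁻¹) := by group
      _ = g * b * g⁻¹ * (g * a * g⁻¹) := h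
      _ = g * (b * a) * g⁻¹ := by group
  exact mul_left_cancel (mul_right_cancel h1)

theorem perm_fin_four_nonabelian (H : Subgroup (Equiv.Perm (Fin 4))) (hH : Nat.card H = 8) :
    ∃ x ∈ H, ∃ y ∈ H, x * y ≠ y * x := by
  obtain ⟨C, hC⟩ : ∃ C : Subgroup (Equiv.Perm (Fin 4)), C = centralizer
    ({(Equiv.swap (0 : Fin 4) 2) * Equiv.swap 1 3} : Set (Equiv.Perm (Fin 4))) := ⟨_, rfl⟩
  have hC8 : Nat.card C = 8 := hC ▸ card_cent_tau
  have : Fact (Nat.Prime 2) := ⟨Nat.prime_two⟩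
  have h24 : Nat.card (Equiv.Perm (Fin 4)) = 24 := by
    rw [Nat.card_perm, Nat.card_fin]; rfl
  have hidx : ∀ K : Subgroup (Equiv.Perm (Fin 4)), Nat.card K = 8 → ¬ 2 ∣ K.index := by
    intro K hK
    have h1 := K.card_mul_index
    rw [hK, h24] at h1
    omega
  have hp : ∀ K : Subgroup (Equiv.Perm (Fin 4)), Nat.card K = 8 → IsPGroup 2 K := by
    intro K hK
    exact IsPGroup.of_card (n := 3) (by rw [hK]; norm_num)
  obtain ⟨g, -, hg⟩ := exists_conj_le_in (p := 2) (N := ⊤) (hp H hH)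
    (by rw [relIndex_top_right]; exact hidx H hH) (le_top : C ≤ ⊤) (hp C hC8)
  have h1 : (Equiv.swap (0 : Fin 4) 2) ∈ C := by
    rw [hC, mem_centralizer_singleton_iff]; decide
  have h2 : (Equiv.swap (0 : Fin 4) 1 * Equiv.swap 2 3) ∈ C := by
    rw [hC, mem_centralizer_singleton_iff]; decide
  refine ⟨_, hg (conj_mem_map_conj h1 g), _, hg (conj_mem_map_conj h2 g), ?_⟩
  intro h
  have h3 : (Equiv.swap (0 : Fin 4) 2) * (Equiv.swap (0 : Fin 4) 1 * Equiv.swap 2 3) =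
      (Equiv.swap (0 : Fin 4) 1 * Equiv.swap 2 3) * (Equiv.swap (0 : Fin 4) 2) :=
    conj_comm_aux g _ _ h
  revert h3
  decide

theorem perm_four_nonabelian {Γ : Type*} (hΓ : Nat.card Γ = 4) (H : Subgroup (Equiv.Perm Γ))
    (hH : Nat.card H = 8) : ∃ x ∈ H, ∃ y ∈ H, x * y ≠ y * x := by
  have hfΓ : Finite Γ := Nat.finite_of_card_ne_zero (by rw [hΓ]; norm_num)
  obtain ⟨e⟩ : Nonempty (Γ ≃ Fin 4) := ⟨Finite.equivFinOfCardEq hΓ⟩
  let E : Equiv.Perm Γ ≃* Equiv.Perm (Fin 4) := e.permCongrHom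
  obtain ⟨x, hx, y, hy, hxy⟩ := perm_fin_four_nonabelian (H.map E.toMonoidHom) (by
    rw [← hH]; exact (card_map_of_injective (f := E.toMonoidHom) E.injective))
  obtain ⟨a, ha, rfl⟩ := hx
  obtain ⟨b, hb, rfl⟩ := hy
  refine ⟨a, ha, b, hb, fun h => hxy ?_⟩
  rw [← map_mul, ← map_mul, h]

section

variable {G Ω : Type*} [Group G] [Finite G] [MulAction G Ω] [Finite Ω]

theorem relIndex_dvd_eight {N K : Subgroup G} {Γ : Set Ω} (hN : IsPGroup 2 N) (hKN : K ≤ N)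
    (hΓ : Γ.ncard = 4)
    (h : ∀ g ∈ N, ∀ x ∈ Γ, g • x ∈ Γ) (hK : ∀ g ∈ N, g ∈ K ↔ ∀ x ∈ Γ, g • x = x) :
    K.relIndex N ∣ 8 := by
  have h1 : K.relIndex N ∣ Nat.factorial 4 := relIndex_dvd_factorial hΓ h hK
  obtain ⟨k, hk⟩ := IsPGroup.iff_card.1 hN
  have h2 : K.relIndex N ∣ 2 ^ k := by
    rw [← hk, ← card_mul_relIndex' hKN]; exact Dvd.intro_left _ rfl
  have h3 : Nat.Coprime (K.relIndex N) 3 :=
    Nat.Coprime.coprime_dvd_left h2 (Nat.Coprime.pow_left k (by norm_num))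
  have h4 : K.relIndex N ∣ 3 * 8 := h1
  exact h3.dvd_of_dvd_mul_left h4

omit [Finite G] [Finite Ω] in
theorem not_comm_of_relIndex_eight {N K : Subgroup G} {Γ : Set Ω} (hΓ : Γ.ncard = 4)
    (h : ∀ g ∈ N, ∀ x ∈ Γ, g • x ∈ Γ) (hK : ∀ g ∈ N, g ∈ K ↔ ∀ x ∈ Γ, g • x = x)
    (h8 : K.relIndex N = 8) : ∃ x ∈ N, ∃ y ∈ N, x * y * x⁻¹ * y⁻¹ ∉ K := by
  rw [relIndex_eq_card_range h hK] at h8
  obtain ⟨x, ⟨a, rfl⟩, y, ⟨b, rfl⟩, hxy⟩ := perm_four_nonabelian (Γ := Γ) hΓ _ h8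
  refine ⟨a, a.2, b, b.2, fun h1 => hxy ?_⟩
  have h2 : a * b * a⁻¹ * b⁻¹ ∈ (actOn N Γ h).ker := by
    rw [mem_ker_actOn]
    exact (hK _ (a * b * a⁻¹ * b⁻¹).2).1 h1
  rw [MonoidHom.mem_ker, map_mul, map_mul, map_mul, map_inv, map_inv] at h2
  have h3 := mul_inv_eq_one.1 h2
  rwa [mul_inv_eq_iff_eq_mul] at h3

end

end Cfsg.Agent.H350.Fix
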