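import Mathlib
import Cfsg.Agent.S0501
import Cfsg.Agent.S1232

/-!
# 2-groups with an involution whose centralizer has order at most 16
-/

set_option autoImplicit false

namespace Cfsg.Agent.H350.Fix

open Subgroup

/-- an involution acting on an elementary abelian normal 2-subgroup -/
theorem card_le_sq_of_involution {S : Type*} [Group S] [Finite S] (V : Subgroup S)
    (hVn : ∀ v ∈ V, ∀ g : S, g * v * g⁻¹ ∈ V) (hVc : ∀ a ∈ V, ∀ b ∈ V, a * b = b * a)
    (hV2 : ∀ a ∈ V, a ^ 2 = 1) (t : S) (ht : t * t = 1) :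
    Nat.card V ≤ Nat.card (V ⊓ centralizer ({t} : Set S) : Subgroup S) *
      Nat.card (V ⊓ centralizer ({t} : Set S) : Subgroup S) := by
  let f : V →* S :=
    { toFun := fun v => v * (t * v * t⁻¹)
      map_one' := by simp
      map_mul' := by
        intro a b
        have h1 : (b : S) * (t * a * t⁻¹) = (t * a * t⁻¹) * b := hVc _ b.2 _ (hVn _ a.2 t)
        calc ((a * b : V) : S) * (t * ((a * b : V) : S) * t⁻¹)
            = a * (b * (t * a * t⁻¹)) * (t * b * t⁻¹) := by rw [Subgroup.coe_mul]; group
          _ = a * (t * a * t⁻¹) * (b * (t * b * t⁻¹)) := by rw [h1]; group }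
  have hf : ∀ v : V, f v = v * (t * v * t⁻¹) := fun v => rfl
  have hinv : t⁻¹ = t := inv_eq_of_mul_eq_one_left ht
  have hrange : f.range ≤ V ⊓ centralizer ({t} : Set S) := by
    rintro _ ⟨v, rfl⟩
    rw [hf, mem_inf, mem_centralizer_singleton_iff]
    refine ⟨V.mul_mem v.2 (hVn _ v.2 t), ?_⟩
    have h1 := hVc v v.2 _ (hVn _ v.2 t)
    have h2 : t * ((v : S) * (t * v * t⁻¹)) = t * v * t⁻¹ * (t * t) * v * t⁻¹ := by group
    rw [h2, ht, mul_one, h1, hinv]
  have hker : f.ker.map V.subtype ≤ V ⊓ centralizer ({t} : Set S) := by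
    rintro _ ⟨v, hv, rfl⟩
    rw [mem_inf, mem_centralizer_singleton_iff]
    refine ⟨v.2, ?_⟩
    have h1 : (v : S) * (t * v * t⁻¹) = 1 := hv
    have h2 : (v : S) * v = 1 := by rw [← pow_two]; exact hV2 v v.2
    have h3 : t * v * t⁻¹ = v := mul_left_cancel (h1.trans h2.symm)
    rw [mul_inv_eq_iff_eq_mul] at h3
    exact h3.symm
  have h1 : Nat.card V = Nat.card f.ker * Nat.card f.range := by
    rw [← index_ker]; exact (card_mul_index _).symm
  have h2 : Nat.card f.ker = Nat.card (f.ker.map V.subtype) :=
    (card_map_of_injective V.subtype_injective).symm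
  rw [h1, h2]
  exact Nat.mul_le_mul (Nat.card_le_card_of_injective _ (inclusion_injective hker))
    (Nat.card_le_card_of_injective _ (inclusion_injective hrange))

/-- the product of an elementary abelian subgroup with a commuting involution -/
theorem exists_sup_involution {S : Type*} [Group S] [Finite S] (A : Subgroup S)
    (hAc : ∀ a ∈ A, ∀ b ∈ A, a * b = b * a) (hA2 : ∀ a ∈ A, a ^ 2 = 1) (t : S) (ht : t * t = 1)
    (htA : ∀ a ∈ A, a * t = t * a) (htn : t ∉ A) :
    ∃ B : Subgroup S, (∀ a ∈ B, ∀ b ∈ B, a * b = b * a) ∧ (∀ a ∈ B, a ^ 2 = 1) ∧ t ∈ B ∧ A ≤ B ∧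
      Nat.card B = 2 * Nat.card A ∧ ∀ x ∈ B, x ∈ A ∨ x * t ∈ A := by
  let B : Subgroup S :=
    { carrier := {x | x ∈ A ∨ x * t ∈ A}
      one_mem' := Or.inl A.one_mem
      mul_mem' := by
        rintro a b (ha | ha) (hb | hb)
        · exact Or.inl (A.mul_mem ha hb)
        · right
          rw [mul_assoc]; exact A.mul_mem ha hb
        · right
          have h1 := htA b hb
          have : a * b * t = (a * t) * b := by rw [mul_assoc, h1, mul_assoc]
          rw [this]; exact A.mul_mem ha hb
        · left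
          have h1 := htA _ hb
          have : a * b = (a * t) * (b * t) := by
            calc a * b = a * (t * t) * b := by rw [ht, mul_one]
              _ = a * t * (t * (b * t) * t) := by
                rw [← h1]
                calc a * (t * t) * b = a * b := by rw [ht, mul_one]
                  _ = a * t * (b * t * t * t) := by
                    rw [mul_assoc b t t, ht, mul_one]
                    have h2 : t * (b * t) = b := by
                      rw [← h1, mul_assoc, ht, mul_one]
                    rw [mul_assoc, h2]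
              _ = (a * t) * (b * t) := by rw [← h1, mul_assoc _ t t, ht, mul_one]
          rw [this]; exact A.mul_mem ha hb
      inv_mem' := by
        rintro a (ha | ha)
        · exact Or.inl (A.inv_mem ha)
        · right
          have h1 := htA _ ha
          have h2 : a⁻¹ * t = (a * t)⁻¹ := by
            have hinv : t⁻¹ = t := inv_eq_of_mul_eq_one_left ht
            have h3 : t * (a * t) = a := by rw [← h1, mul_assoc, ht, mul_one]
            have h4 : a⁻¹ = (a * t)⁻¹ * t⁻¹ := by rw [← mul_inv_rev, h3]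
            rw [h4, hinv, mul_assoc, ht, mul_one]
          rw [h2]; exact A.inv_mem ha }
  have hmem : ∀ x, x ∈ B ↔ x ∈ A ∨ x * t ∈ A := fun x => Iff.rfl
  have hAB : A ≤ B := fun x hx => Or.inl hx
  have htB : t ∈ B := Or.inr (by rw [ht]; exact A.one_mem)
  have hdec : ∀ x ∈ B, ∃ a ∈ A, x = a ∨ x = a * t := by
    rintro x (hx | hx)
    · exact ⟨x, hx, Or.inl rfl⟩
    · exact ⟨x * t, hx, Or.inr (by rw [mul_assoc, ht, mul_one])⟩
  have hcomm : ∀ a ∈ B, ∀ b ∈ B, a * b = b * a := by
    intro a ha b hb
    obtain ⟨a', ha', h1⟩ := hdec a ha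
    obtain ⟨b', hb', h2⟩ := hdec b hb
    have c1 : Commute a' b' := hAc a' ha' b' hb'
    have c2 : Commute a' t := htA a' ha'
    have c3 : Commute b' t := htA b' hb'
    have c4 : Commute t t := Commute.refl t
    rcases h1 with rfl | rfl <;> rcases h2 with rfl | rfl
    · exact c1
    · exact c1.mul_right c2
    · exact c1.mul_left c3.symm
    · exact (c1.mul_right c2).mul_left (c3.symm.mul_right c4)
  refine ⟨B, hcomm, ?_, htB, hAB, ?_, fun x hx => hx⟩
  · intro a ha
    obtain ⟨a', ha', h1⟩ := hdec a ha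
    rcases h1 with rfl | rfl
    · exact hA2 _ ha'
    · have c2 : Commute a' t := htA a' ha'
      rw [c2.mul_pow, hA2 _ ha', one_mul, pow_two, ht]
  · have h1 : A.relIndex B = 2 := by
      rw [relIndex_eq_two_iff]
      refine ⟨t, htB, ?_⟩
      intro b hb
      rcases hb with hb | hb
      · right
        refine ⟨hb, fun h => htn ?_⟩
        have : t = b⁻¹ * (b * t) := by group
        rw [this]; exact A.mul_mem (A.inv_mem hb) h
      · left
        refine ⟨hb, fun h => htn ?_⟩
        have : t = b⁻¹ * (b * t) := by group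
        rw [this]; exact A.mul_mem (A.inv_mem h) hb
    have h2 := relIndex_mul_relIndex ⊥ A B bot_le hAB
    rw [relIndex_bot_left, relIndex_bot_left, h1] at h2
    rw [← h2, mul_comm]

theorem rank_ZE {S : Type*} [Group S] [Finite S] (hS : IsPGroup 2 S) (t : S) (ht : orderOf t = 2)
    (hc : Nat.card (centralizer ({t} : Set S)) ≤ 16)
    (hna : Nat.card (centralizer ({t} : Set S)) = 16 →
      ∃ x ∈ centralizer ({t} : Set S), ∃ y ∈ centralizer ({t} : Set S), x * y ≠ y * x) :
    Cfsg.SectionalPRankLE 2 4 S := by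
  have htt : t * t = 1 := by rw [← pow_two, ← ht]; exact pow_orderOf_eq_one t
  have ht1 : t ≠ 1 := by rintro rfl; rw [orderOf_one] at ht; omega
  have hpow : ∀ K : Subgroup S, ∃ k, Nat.card K = 2 ^ k := fun K => IsPGroup.iff_card.1 (hS.to_subgroup K)
  have hcardle : ∀ A B : Subgroup S, A ≤ B → Nat.card A ≤ Nat.card B := fun A B h =>
    Nat.card_le_card_of_injective _ (inclusion_injective h)
  have htE : t ∈ centralizer ({t} : Set S) := by rw [mem_centralizer_singleton_iff]
  by_cases hA : ∃ A : Subgroup S, A ≤ centralizer ({t} : Set S) ∧ (∀ a ∈ A, ∀ b ∈ A, a * b = b * a) ∧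
      (∀ a ∈ A, a ^ 2 = 1) ∧ 8 ≤ Nat.card A
  · -- make it contain `t`
    obtain ⟨A, hAE, hAc, hA2, hA8, htA⟩ : ∃ A : Subgroup S, A ≤ centralizer ({t} : Set S) ∧
        (∀ a ∈ A, ∀ b ∈ A, a * b = b * a) ∧ (∀ a ∈ A, a ^ 2 = 1) ∧ 8 ≤ Nat.card A ∧ t ∈ A := by
      obtain ⟨A, hAE, hAc, hA2, hA8⟩ := hA
      by_cases htA : t ∈ A
      · exact ⟨A, hAE, hAc, hA2, hA8, htA⟩
      · obtain ⟨B, h1, h2, h3, h4, h5, h6⟩ := exists_sup_involution A hAc hA2 t htt
          (fun a ha => (mem_centralizer_singleton_iff.1 (hAE ha))) htA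
        refine ⟨B, ?_, h1, h2, by omega, h3⟩
        intro x hx
        rw [mem_centralizer_singleton_iff]
        exact h1 x hx t h3
    have hA16 : Nat.card A ≤ 16 := (hcardle _ _ hAE).trans hc
    have hA16' : Nat.card A ≠ 16 := by
      intro h
      have hEq : A = centralizer ({t} : Set S) := Subgroup.eq_of_le_of_card_ge hAE (by omega)
      obtain ⟨x, hx, y, hy, hxy⟩ := hna (hEq ▸ h)
      exact hxy (hAc x (hEq ▸ hx) y (hEq ▸ hy))
    have hA8' : Nat.card A = 8 := by
      obtain ⟨k, hk⟩ := hpow A
      have h1 : k < 4 := by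
        by_contra h2
        have : 2 ^ 4 ≤ 2 ^ k := Nat.pow_le_pow_right (by norm_num) (not_lt.1 h2)
        omega
      have h2 : 2 < k := by
        by_contra h3
        have : 2 ^ k ≤ 2 ^ 2 := Nat.pow_le_pow_right (by norm_num) (not_lt.1 h3)
        omega
      have : k = 3 := by omega
      rw [hk, this]; norm_num
    have hCA : centralizer (A : Set S) = A := by
      have h1 : A ≤ centralizer (A : Set S) := by
        intro x hx
        rw [mem_centralizer_iff]
        intro y hy
        exact hAc y hy x hx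
      have h2 : centralizer (A : Set S) ≤ centralizer ({t} : Set S) :=
        centralizer_le (by simpa using htA)
      symm
      apply Subgroup.eq_of_le_of_card_ge h1
      by_contra h3
      push Not at h3
      obtain ⟨k, hk⟩ := hpow (centralizer (A : Set S))
      have h4 := hcardle _ _ h2
      have h5 : Nat.card (centralizer (A : Set S)) = 16 := by
        have h6 : k < 5 := by
          by_contra h2
          have : 2 ^ 5 ≤ 2 ^ k := Nat.pow_le_pow_right (by norm_num) (not_lt.1 h2)
          omega
        have h7 : 3 < k := by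
          by_contra h3
          have : 2 ^ k ≤ 2 ^ 3 := Nat.pow_le_pow_right (by norm_num) (not_lt.1 h3)
          omega
        have : k = 4 := by omega
        rw [hk, this]; norm_num
      have h6 : centralizer (A : Set S) = centralizer ({t} : Set S) :=
        Subgroup.eq_of_le_of_card_ge h2 (by omega)
      obtain ⟨x, hx, y, hy, hxy⟩ := hna (by rw [← h6]; exact h5)
      have hrel : A.relIndex (centralizer ({t} : Set S)) = 2 := by
        have h7 := relIndex_mul_relIndex ⊥ A _ bot_le hAE
        rw [relIndex_bot_left, relIndex_bot_left, hA8', ← h6, h5] at h7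
        rw [← h6]; omega
      have hx' : x ∉ A := fun h => hxy (mem_centralizer_iff.1 (h6 ▸ hy) x h)
      have hy' : y ∉ A := fun h => hxy (mem_centralizer_iff.1 (h6 ▸ hx) y h).symm
      have h8 : x * y ∈ A := by
        have h9 := (mul_mem_iff_of_index_two (H := A.subgroupOf (centralizer ({t} : Set S))) hrel
          (a := ⟨x, hx⟩) (b := ⟨y, hy⟩))
        simp only [mem_subgroupOf] at h9
        exact h9.2 ⟨fun h => absurd h hx', fun h => absurd h hy'⟩
      have h9 := mem_centralizer_iff.1 (h6 ▸ hx) _ h8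
      apply hxy
      have h10 : x * (y * x) = x * (x * y) := by rw [← mul_assoc]; exact h9
      exact (mul_left_cancel h10).symm
    refine Cfsg.Agent.S1232.result hS A ⟨?_, hA2⟩ hA8' hCA
    exact ⟨⟨fun a b => Subtype.ext (hAc a a.2 b b.2)⟩⟩
  · -- no elementary abelian subgroup of order 8 in the centralizer
    push Not at hA
    refine Cfsg.Agent.S0501.result hS ?_
    intro V hVn hVc hV2
    have hVc' : ∀ a ∈ V, ∀ b ∈ V, a * b = b * a := fun a ha b hb =>
      congrArg Subtype.val (hVc.is_comm.comm (⟨a, ha⟩ : V) ⟨b, hb⟩)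
    by_contra hcon
    push Not at hcon
    have h8 : 8 ≤ Nat.card V := by
      obtain ⟨k, hk⟩ := hpow V
      have : 2 < k := by
        by_contra h3
        have : 2 ^ k ≤ 2 ^ 2 := Nat.pow_le_pow_right (by norm_num) (not_lt.1 h3)
        omega
      have : 2 ^ 3 ≤ 2 ^ k := Nat.pow_le_pow_right (by norm_num) this
      omega
    by_cases htV : t ∈ V
    · have h1 := hA V (fun x hx => by
        rw [mem_centralizer_singleton_iff]; exact hVc' x hx t htV) hVc' hV2
      omega
    · have h1 := card_le_sq_of_involution V (fun v hv g => hVn.conj_mem v hv g) hVc' hV2 t htt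
      obtain ⟨W, hW⟩ : ∃ W : Subgroup S, W = V ⊓ centralizer ({t} : Set S) := ⟨_, rfl⟩
      rw [← hW] at h1
      have hWV : W ≤ V := hW ▸ inf_le_left
      have hWE : W ≤ centralizer ({t} : Set S) := hW ▸ inf_le_right
      obtain ⟨B, h2, h3, h4, h5, h6, h7⟩ := exists_sup_involution W
        (fun a ha b hb => hVc' a (hWV ha) b (hWV hb)) (fun a ha => hV2 a (hWV ha)) t htt
        (fun a ha => mem_centralizer_singleton_iff.1 (hWE ha)) (fun h => htV (hWV h))
      have h9 := hA B (fun x hx => by
        rw [mem_centralizer_singleton_iff]; exact h2 x hx t h4) h2 h3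
      have h10 : Nat.card W ≤ 2 := by
        obtain ⟨k, hk⟩ := hpow W
        have : k < 2 := by
          by_contra h3
          have : 2 ^ 2 ≤ 2 ^ k := Nat.pow_le_pow_right (by norm_num) (not_lt.1 h3)
          omega
        have : 2 ^ k ≤ 2 ^ 1 := Nat.pow_le_pow_right (by norm_num) (by omega)
        omega
      have h11 : Nat.card W * Nat.card W ≤ 2 * 2 := Nat.mul_le_mul h10 h10
      omega

end Cfsg.Agent.H350.Fix
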