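import Mathlib
import Cfsg.Agent.H350.FixThreeB

/-!
# Fixity 4, involutions without fixed points: the prime 3 (assembly)
-/

set_option autoImplicit false

namespace Cfsg.Agent.H350.Fix

open Subgroup Cfsg.Agent.Lib.GoldschmidtFusion

variable {G Ω : Type*} [Group G] [Finite G] [MulAction G Ω]

/-- the `3`-part of `C_G(s)` -/
theorem not_dvd_centralizer [Finite Ω] {Δ : Set Ω} {n : ℕ} (hn : Δ.ncard = n)
    (hn4 : ¬ 9 ∣ Nat.factorial n) {s : G} (hs : MulAction.fixedBy Ω s = Δ)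
    (hK : ¬ 9 ∣ Nat.card (kst G Δ)) :
    ¬ 27 ∣ Nat.card (centralizer ({s} : Set G)) := by
  have h1 : centralizer ({s} : Set G) ≤ mst G Δ := by
    intro g hg
    rw [mem_centralizer_singleton_iff] at hg
    refine mem_mst_of_fixedBy hs ?_
    have : g * s * g⁻¹ = s := by rw [hg]; group
    rw [this, hs]
  intro h
  have h2 : 27 ∣ Nat.card (mst G Δ) := h.trans (card_dvd_of_le h1)
  rw [← card_mul_relIndex' (kst_le_mst (G := G) Δ)] at h2
  have h3 : (kst G Δ).relIndex (mst G Δ) ∣ Nat.factorial n := by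
    refine relIndex_dvd_factorial hn (fun g hg x hx => (hg x).2 hx) ?_
    intro g _
    exact mem_kst
  have h4 : ¬ 9 ∣ (kst G Δ).relIndex (mst G Δ) := fun h => hn4 (h.trans h3)
  have hp : Nat.Prime 3 := Nat.prime_three
  have e27 : (27 : ℕ) = 3 ^ 3 := by norm_num
  have e9 : (9 : ℕ) = 3 ^ 2 := by norm_num
  have hpos1 : Nat.card (kst G Δ) ≠ 0 := Nat.card_pos.ne'
  have hpos2 : (kst G Δ).relIndex (mst G Δ) ≠ 0 := index_ne_zero_of_finite
  rw [e27, hp.pow_dvd_iff_le_factorization (mul_ne_zero hpos1 hpos2),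
    Nat.factorization_mul hpos1 hpos2] at h2
  rw [e9, hp.pow_dvd_iff_le_factorization hpos2] at h4
  rw [e9, hp.pow_dvd_iff_le_factorization hpos1] at hK
  simp only [Finsupp.coe_add, Pi.add_apply] at h2
  omega

omit [Finite G] in
theorem card_modEq_inter_fx [Finite Ω] {p : ℕ} [Fact p.Prime] {T : Subgroup G} (hT : IsPGroup p T)
    {Γ : Set Ω} (h : ∀ g ∈ T, ∀ x ∈ Γ, g • x ∈ Γ) :
    Γ.ncard ≡ (Γ ∩ fx Ω T).ncard [MOD p] := by
  let act : MulAction T Γ :=
    { smul := fun g x => ⟨(g : G) • (x : Ω), h g g.2 x x.2⟩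
      one_smul := fun x => Subtype.ext (one_smul G (x : Ω))
      mul_smul := fun a b x => Subtype.ext (mul_smul (a : G) (b : G) (x : Ω)) }
  have h1 := hT.card_modEq_card_fixedPoints Γ
  have h2 : Nat.card (MulAction.fixedPoints T Γ) = (Γ ∩ fx Ω T).ncard := by
    have e : (Γ ∩ fx Ω T) = Subtype.val '' (MulAction.fixedPoints T Γ) := by
      ext x
      constructor
      · rintro ⟨hx, hx'⟩
        exact ⟨⟨x, hx⟩, fun g => Subtype.ext (hx' g g.2), rfl⟩
      · rintro ⟨y, hy, rfl⟩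
        exact ⟨y.2, fun g hg => congrArg Subtype.val (hy ⟨g, hg⟩)⟩
    rw [e, Set.ncard_image_of_injective _ Subtype.val_injective]
    rfl
  rw [h2] at h1
  exact h1

theorem odd_of_odd_ncard [Finite Ω] {Δ : Set Ω} (hΔ : Odd Δ.ncard)
    (hodd : ∀ a : Ω, Odd (Nat.card (MulAction.stabilizer G a))) : Odd (Nat.card (mst G Δ)) := by
  by_contra hcon
  rw [Nat.not_odd_iff_even, even_iff_two_dvd] at hcon
  obtain ⟨t, htM, ht2⟩ := exists_orderOf_of_dvd hcon
  have h1 : IsPGroup 2 (zpowers t) := isPGroup_zpowers_of_orderOf (n := 1) (by rw [pow_one]; exact ht2)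
  have h2 := card_modEq_inter_fx h1 (Γ := Δ) (by
    intro g hg x hx
    have : g ∈ mst G Δ := (zpowers_le.2 htM) hg
    exact (this x).2 hx)
  have h3 : (Δ ∩ fx Ω (zpowers t)).Nonempty := by
    rw [Set.nonempty_iff_ne_empty]
    intro h
    rw [h, Set.ncard_empty] at h2
    have h4 : 2 ∣ Δ.ncard := (Nat.modEq_zero_iff_dvd).1 h2
    rw [← even_iff_two_dvd] at h4
    exact (Nat.not_even_iff_odd.2 hΔ) h4
  obtain ⟨x, -, hx⟩ := h3
  have h4 : t ∈ MulAction.stabilizer G x := hx t (mem_zpowers t)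
  have h5 : orderOf t ∣ Nat.card (MulAction.stabilizer G x) := by
    have := orderOf_dvd_natCard (⟨t, h4⟩ : MulAction.stabilizer G x)
    rwa [← Subgroup.orderOf_coe] at this
  rw [ht2] at h5
  exact (Nat.not_even_iff_odd.2 (hodd x)) (even_iff_two_dvd.2 h5)

theorem exists_point_sylow {p : ℕ} [Fact p.Prime] (P : Sylow p G) (a : Ω) :
    ∃ b : Ω, ¬ p ∣ ((P : Subgroup G) ⊓ MulAction.stabilizer G b).relIndex (MulAction.stabilizer G b) := by
  obtain ⟨R, -, hRN, hR, hRi⟩ := exists_sylow_in (p := p) (N := MulAction.stabilizer G a) (D := ⊥)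
    bot_le IsPGroup.of_bot
  obtain ⟨Q, hQ⟩ := hR.exists_le_sylow
  obtain ⟨k, hk⟩ := MulAction.exists_smul_eq G Q P
  have hkR : R.map (MulAut.conj k).toMonoidHom ≤ (P : Subgroup G) := by
    rw [← hk, Sylow.coe_subgroup_smul]
    rintro _ ⟨r, hr, rfl⟩
    exact Subgroup.smul_mem_pointwise_smul _ (MulAut.conj k) _ (hQ hr)
  refine ⟨k • a, fun h => hRi ?_⟩
  have e : MulAction.stabilizer G (k • a) = (MulAction.stabilizer G a).map (MulAut.conj k).toMonoidHom :=
    MulAction.stabilizer_smul_eq_stabilizer_map_conj k a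
  have h1 : R.map (MulAut.conj k).toMonoidHom ≤ (P : Subgroup G) ⊓ MulAction.stabilizer G (k • a) :=
    le_inf hkR (e ▸ map_conj_mono hRN k)
  have h2 := relIndex_dvd_of_le_left (MulAction.stabilizer G (k • a)) h1
  have h3 : (R.map (MulAut.conj k).toMonoidHom).relIndex (MulAction.stabilizer G (k • a)) =
      R.relIndex (MulAction.stabilizer G a) := by
    rw [e]; exact relIndex_map_map_of_injective _ _ (MulAut.conj k).injective
  rw [h3] at h2
  exact h.trans h2

/-- the conclusion of the prime-3 analysis -/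
def Concl3 (P : Sylow 3 G) : Prop :=
  (∃ H : Subgroup G, H ≠ ⊤ ∧ 3 ∣ Nat.card H ∧ ∀ g : G, g ∉ H →
    ¬ 3 ∣ Nat.card ↥(H ⊓ H.map (MulAut.conj g).toMonoidHom)) ∨
  (Nat.card P = 9 ∧ ∀ x ∈ (P : Subgroup G), x ^ 3 = 1)

theorem three_case_zero [Finite Ω] [IsSimpleGroup G] (hna : ¬ IsMulCommutative G)
    (htrans : MulAction.IsPretransitive G Ω)
    (hfix : ∀ g : G, g ≠ 1 → (MulAction.fixedBy Ω g).ncard ≤ 4)
    (hodd : ∀ a : Ω, Odd (Nat.card (MulAction.stabilizer G a))) (P : Sylow 3 G)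
    (htr : 27 ≤ Nat.card P → ∀ s : G, orderOf s = 3 →
      ¬ 27 ∣ Nat.card (centralizer ({s} : Set G)) → (∀ g : G, g * s * g⁻¹ ≠ s⁻¹) → False)
    (a : Ω) (h3 : 3 ∣ Nat.card (MulAction.stabilizer G a)) (hmod : Nat.card Ω % 3 = 0) :
    Concl3 P := by
  obtain ⟨b, hb⟩ := exists_point_sylow P a
  have hidx : ∀ x : Ω, (MulAction.stabilizer G x).index = Nat.card Ω := fun x =>
    MulAction.index_stabilizer_of_transitive G x
  have hcard : Nat.card (MulAction.stabilizer G b) = Nat.card (MulAction.stabilizer G a) := by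
    have e1 := (MulAction.stabilizer G b).card_mul_index
    have e2 := (MulAction.stabilizer G a).card_mul_index
    rw [hidx] at e1 e2
    have hpos : 0 < Nat.card Ω := Nat.card_pos_iff.2 ⟨⟨a⟩, inferInstance⟩
    exact Nat.eq_of_mul_eq_mul_right hpos (e1.trans e2.symm)
  obtain ⟨T, hT⟩ : ∃ T : Subgroup G, T = (P : Subgroup G) ⊓ MulAction.stabilizer G b := ⟨_, rfl⟩
  rw [← hT] at hb
  have hTb : T ≤ MulAction.stabilizer G b := hT ▸ inf_le_right
  have hTP : T ≤ (P : Subgroup G) := hT ▸ inf_le_left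
  have hcT := card_mul_relIndex' hTb
  have h3T : 3 ∣ Nat.card T := by
    have h4 : 3 ∣ Nat.card T * T.relIndex (MulAction.stabilizer G b) := by
      rw [hcT, hcard]; exact h3
    exact (Nat.prime_three.dvd_mul.1 h4).resolve_right hb
  have hT1 : T ≠ ⊥ := by
    rintro h
    rw [h, card_bot] at h3T
    omega
  have hTp : IsPGroup 3 T := P.isPGroup'.to_le hTP
  obtain ⟨Δ, hΔ⟩ : ∃ Δ : Set Ω, Δ = fx Ω T := ⟨_, rfl⟩
  have hbΔ : b ∈ Δ := by rw [hΔ]; intro g hg; exact hTb hg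
  obtain ⟨x₀, hx₀, hx₀1⟩ := exists_mem_ne_one hT1
  have hΔ3 : Δ.ncard = 3 := by
    have h4 := card_fx_modEq (Ω := Ω) hTp
    rw [← hΔ] at h4
    have h5 : Δ.ncard ≤ 4 := by
      refine le_trans (Set.ncard_le_ncard ?_) (hfix x₀ hx₀1)
      rw [hΔ]; exact fx_sub_fixedBy hx₀
    have h6 : 0 < Δ.ncard := by
      rw [Set.ncard_pos]; exact ⟨b, hbΔ⟩
    have h7 : Nat.card Ω % 3 = Δ.ncard % 3 := h4
    omega
  have hfixT : ∀ x ∈ T, x ≠ 1 → MulAction.fixedBy Ω x = Δ := by
    intro x hx hx1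
    symm
    refine Set.eq_of_subset_of_ncard_le (by rw [hΔ]; exact fx_sub_fixedBy hx) ?_ (Set.toFinite _)
    have h4 := card_fixedBy_modEq (Ω := Ω) (isPGroup_zpowers_of_mem hTp hx)
    have h5 : Nat.card Ω % 3 = (MulAction.fixedBy Ω x).ncard % 3 := h4
    have h6 := hfix x hx1
    omega
  have hTK : T = (P : Subgroup G) ⊓ kst G Δ := by
    apply le_antisymm
    · refine le_inf hTP ?_
      intro g hg x hx
      rw [hΔ] at hx
      exact hx g hg
    · rw [hT]
      refine inf_le_inf_left _ ?_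
      intro g hg
      exact hg b hbΔ
  by_cases hPM : (P : Subgroup G) ≤ mst G Δ
  · have hrel : T.relIndex (P : Subgroup G) ∣ 3 := by
      refine relIndex_dvd_three P.isPGroup' hTP (relIndex_dvd_factorial (Γ := Δ) hΔ3 ?_ ?_)
      · intro g hg x hx
        exact (hPM hg x).2 hx
      · intro g hg
        rw [hTK, mem_inf]
        exact ⟨fun h => h.2, fun h => ⟨hg, h⟩⟩
    have hrel3 : T.relIndex (P : Subgroup G) = 3 := by
      rcases (Nat.dvd_prime Nat.prime_three).1 hrel with h4 | h4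
      · exfalso
        rw [relIndex_eq_one] at h4
        have h5 := index_dvd_of_le (h4.trans hTb)
        rw [hidx] at h5
        exact P.not_dvd_index ((Nat.dvd_of_mod_eq_zero hmod).trans h5)
      · exact h4
    have hMo : Odd (Nat.card (mst G Δ)) := odd_of_odd_ncard (by rw [hΔ3]; decide) hodd
    have hTn : ∀ g ∈ (P : Subgroup G), ∀ x ∈ T, g * x * g⁻¹ ∈ T := by
      intro g hg x hx
      rw [hTK, mem_inf] at hx ⊢
      exact ⟨mul_mem (mul_mem hg hx.1) (inv_mem hg), mst_kst_normal (hPM hg) hx.2⟩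
    have hne1 : ∀ w : G, w ≠ 1 → ∀ g : G, g * w * g⁻¹ ≠ 1 := by
      intro w hw g h
      apply hw
      have : w = g⁻¹ * (g * w * g⁻¹) * g := by group
      rw [this, h]; simp
    have h := t3a P T (mst G Δ) ⊤ hTP hT1 hTn hrel3 (fun _ _ _ _ => le_top)
      (fun w hw hw1 g hg => mem_mst_of_fixedBy (hfixT w hw hw1) (hfixT _ hg (hne1 w hw1 g)))
      (by
        intro g hg x hx hgx
        rw [hTK, mem_inf]
        refine ⟨mul_mem hgx (inv_mem hx), ?_⟩
        exact odd_act_comm (H := mst G Δ) hΔ3 hMo (fun g hg x hx => (hg x).2 hx) (mem_inf.1 hg).2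
          (hPM hx))
      (by
        intro w hw hw1 g _ hgw
        have hgM : g ∈ mst G Δ := by
          refine mem_mst_of_fixedBy (hfixT w hw hw1) ?_
          rw [hgw]
          exact hfixT _ (inv_mem hw) (by rwa [Ne, inv_eq_one])
        exact hw1 (odd_no_invert hMo hgM (hPM (hTP hw)) hgw))
    rcases h with h | h
    · exfalso
      refine no_normal_index hna P T (lt_of_le_of_ne hTP ?_) hTn h
      intro h4
      rw [h4, relIndex_self] at hrel3
      omega
    · exact Or.inr h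
  · exfalso
    obtain ⟨hcT3, h27, s, hsT, hs1, hs3, hinv⟩ := subcaseB hTK hT1 hfixT (le_refl Δ) hΔ3 (by omega)
      (fun g hg x hx => ((mem_inf.1 hg).2 x).2 hx)
      (fun g hg => by
        rw [hTK, mem_inf]
        exact ⟨fun h => h.2, fun h => ⟨(mem_inf.1 hg).1, h⟩⟩) hodd hPM
    refine htr h27 s hs3 (not_dvd_centralizer hΔ3 (by decide) (hfixT s hsT hs1) ?_) hinv
    intro h9
    have h4 : kst G Δ ≤ MulAction.stabilizer G b := fun g hg => hg b hbΔ
    have h5 : 9 ∣ Nat.card (MulAction.stabilizer G b) := h9.trans (card_dvd_of_le h4)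
    rw [← hcT, hcT3] at h5
    apply hb
    obtain ⟨c, hc⟩ := h5
    exact ⟨c, by omega⟩

end Cfsg.Agent.H350.Fix
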