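import Mathlib
import Cfsg.Prelude.Def_Involutions
import Cfsg.Agent.TwoFusion.MaxClass
import Cfsg.Agent.SmallSimple.Burnside
import Cfsg.Agent.H350.FixThreeC
import Cfsg.Agent.H755.SignContra

/-!
# Fixity: involutions fixing at most three points
-/

set_option autoImplicit false

namespace Cfsg.Agent.H350.Fix

open Subgroup Cfsg.Agent.Lib.GoldschmidtFusion

variable {G Ω : Type*} [Group G] [Finite G] [MulAction G Ω]

theorem not_cyclic_sylow_two [IsSimpleGroup G] (hna : ¬ IsMulCommutative G) (S : Sylow 2 G)
    (h2 : 2 ∣ Nat.card G) : ¬ IsCyclic S := by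
  intro hc
  have h1 : (Nat.card G).minFac = 2 := by
    rw [Nat.minFac_eq_two_iff]; exact h2
  have h3 := Cfsg.Agent.SmallSimple.Burnside.card_eq_of_isCyclic_minFac h1 S hc
  apply hna
  have : Fact (Nat.Prime 2) := ⟨Nat.prime_two⟩
  have := isCyclic_of_prime_card (p := 2) h3
  exact IsCyclic.isMulCommutative

theorem dih_of_centralizer [IsSimpleGroup G] (hna : ¬ IsMulCommutative G) (S : Sylow 2 G) {t : G}
    (htS : t ∈ (S : Subgroup G)) (ht : orderOf t = 2)
    (hc : Nat.card ((S : Subgroup G) ⊓ centralizer ({t} : Set G) : Subgroup G) ≤ 4) :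
    (∃ n : ℕ, Nonempty ((S : Subgroup G) ≃* DihedralGroup n)) ∨
      Cfsg.IsQuasiDihedral (S : Subgroup G) := by
  have hSp : IsPGroup 2 (S : Subgroup G) := S.isPGroup'
  have h2G : 2 ∣ Nat.card G := ht ▸ orderOf_dvd_natCard t
  have hncyc := not_cyclic_sylow_two hna S h2G
  obtain ⟨t', ht'⟩ : ∃ t' : (S : Subgroup G), t' = ⟨t, htS⟩ := ⟨_, rfl⟩
  have ht't : (t' : G) = t := by rw [ht']
  have ht'o : orderOf t' = 2 := by rw [← Subgroup.orderOf_coe, ht't, ht]
  have hcc : Nat.card (centralizer ({t'} : Set (S : Subgroup G))) =
      Nat.card ((S : Subgroup G) ⊓ centralizer ({t} : Set G) : Subgroup G) := by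
    have e : (centralizer ({t'} : Set (S : Subgroup G))).map (S : Subgroup G).subtype =
        (S : Subgroup G) ⊓ centralizer ({t} : Set G) := by
      ext x
      constructor
      · rintro ⟨y, hy, rfl⟩
        refine mem_inf.2 ⟨y.2, ?_⟩
        rw [SetLike.mem_coe, mem_centralizer_singleton_iff] at hy
        rw [mem_centralizer_singleton_iff, ← ht't]
        exact congrArg Subtype.val hy
      · intro hx
        rw [mem_inf, mem_centralizer_singleton_iff] at hx
        refine ⟨⟨x, hx.1⟩, ?_, rfl⟩
        rw [SetLike.mem_coe, mem_centralizer_singleton_iff]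
        apply Subtype.ext
        rw [Subgroup.coe_mul, Subgroup.coe_mul, ht't]
        exact hx.2
    rw [← e]
    exact (card_map_of_injective (S : Subgroup G).subtype_injective).symm
  rw [← hcc] at hc
  by_cases htc : t' ∈ center (S : Subgroup G)
  · have h1 : centralizer ({t'} : Set (S : Subgroup G)) = ⊤ := by
      rw [eq_top_iff]
      intro x _
      rw [mem_centralizer_singleton_iff]
      exact (mem_center_iff.1 htc x)
    rw [h1, card_top] at hc
    obtain ⟨k, hk⟩ := IsPGroup.iff_card.1 hSp
    have hk2 : k ≤ 2 := by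
      by_contra h3
      have : 2 ^ 3 ≤ 2 ^ k := Nat.pow_le_pow_right (by norm_num) (by omega)
      omega
    have h4 : Nat.card (S : Subgroup G) = 4 := by
      interval_cases k
      · exfalso
        have : t' = 1 := by
          have := (Nat.card_eq_one_iff_unique.1 (by rw [hk]; rfl : Nat.card (S : Subgroup G) = 1)).1
          exact Subsingleton.elim _ _
        rw [this, orderOf_one] at ht'o
        omega
      · exfalso
        apply hncyc
        have : Fact (Nat.Prime 2) := ⟨Nat.prime_two⟩
        exact isCyclic_of_prime_card (p := 2) (by rw [hk]; norm_num)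
      · rw [hk]; norm_num
    left
    refine ⟨2, ?_⟩
    have hexp : Monoid.exponent (S : Subgroup G) = 2 := by
      have : Fact (Nat.Prime 2) := ⟨Nat.prime_two⟩
      have h5 : Monoid.exponent (S : Subgroup G) ∣ 4 := by
        rw [← h4]; exact Group.exponent_dvd_nat_card
      have h5' : Monoid.exponent (S : Subgroup G) ∣ 2 ^ 2 := h5
      obtain ⟨j, hj, hj'⟩ := (Nat.dvd_prime_pow Nat.prime_two).1 h5'
      interval_cases j
      · exfalso
        rw [pow_zero, Monoid.exp_eq_one_iff] at hj'
        have : t' = 1 := Subsingleton.elim _ _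
        rw [this, orderOf_one] at ht'o
        omega
      · rw [hj', pow_one]
      · exfalso
        apply hncyc
        have h6 : ∀ a b : (S : Subgroup G), a * b = b * a := by
          intro a b
          exact (IsPGroup.isMulCommutative_of_card_eq_prime_sq (p := 2) (by rw [h4]; norm_num)).is_comm.comm a b
        let cg : CommGroup (S : Subgroup G) := { (inferInstance : Group (S : Subgroup G)) with
          mul_comm := h6 }
        exact IsCyclic.of_exponent_eq_card (by rw [hj', h4]; norm_num)
    have hk4 : IsKleinFour (S : Subgroup G) := ⟨h4, hexp⟩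
    exact IsKleinFour.nonempty_mulEquiv
  · have h4 : Nat.card (centralizer ({t'} : Set (S : Subgroup G))) = 4 := by
      obtain ⟨k, hk⟩ := IsPGroup.iff_card.1 (hSp.to_subgroup (centralizer ({t'} : Set (S : Subgroup G))))
      have hk2 : k ≤ 2 := by
        by_contra h3
        have : 2 ^ 3 ≤ 2 ^ k := Nat.pow_le_pow_right (by norm_num) (by omega)
        omega
      have htm : t' ∈ centralizer ({t'} : Set (S : Subgroup G)) := by
        rw [mem_centralizer_singleton_iff]
      interval_cases k
      · exfalso
        rw [pow_zero] at hk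
        have := eq_bot_of_card_eq _ hk
        rw [this, mem_bot] at htm
        exact htc (htm ▸ one_mem _)
      · exfalso
        have hnt : Nontrivial (S : Subgroup G) := ⟨⟨t', 1, fun h => htc (h ▸ one_mem _)⟩⟩
        have hcn := hSp.center_nontrivial
        have h5 : center (S : Subgroup G) ≤ centralizer ({t'} : Set (S : Subgroup G)) :=
          center_le_centralizer _
        have h6 : center (S : Subgroup G) = centralizer ({t'} : Set (S : Subgroup G)) := by
          apply Subgroup.eq_of_le_of_card_ge h5
          rw [hk, pow_one]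
          exact Finite.one_lt_card
        rw [h6] at htc
        exact htc htm
      · rw [hk]; norm_num
    rcases Cfsg.Agent.TwoFusion.MaxClass.dihedral_or_qd_of_card_centralizer_eq_four hSp t' ht'o htc
      h4 with ⟨m, -, hm⟩ | h
    · exact Or.inl ⟨m, hm⟩
    · exact Or.inr h

end Cfsg.Agent.H350.Fix
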