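import Mathlib
import Cfsg.Agent.H350.FixTwoA

/-!
# Fixity: involutions fixing at most three points (main part)
-/

set_option autoImplicit false

namespace Cfsg.Agent.H350.Fix

open Subgroup Cfsg.Agent.Lib.GoldschmidtFusion

variable {G Ω : Type*} [Group G] [Finite G] [MulAction G Ω]

omit [Finite G] in
theorem fixedBy_conj_image (k x : G) :
    MulAction.fixedBy Ω (k * x * k⁻¹) = (fun a => k • a) '' MulAction.fixedBy Ω x := by
  ext a
  rw [fixedBy_conj]
  constructor
  · intro h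
    exact ⟨k⁻¹ • a, h, smul_inv_smul k a⟩
  · rintro ⟨b, hb, rfl⟩
    simpa using hb

omit [Finite G] in
theorem ncard_fixedBy_conj (k x : G) :
    (MulAction.fixedBy Ω (k * x * k⁻¹)).ncard = (MulAction.fixedBy Ω x).ncard := by
  rw [fixedBy_conj_image, Set.ncard_image_of_injective _ (MulAction.injective k)]

omit [Finite G] in
/-- the nontrivial elements of a 2-group fix at most as many points as an involution -/
theorem ncard_fixedBy_le [Finite Ω] {f : ℕ}
    (hf : ∀ g : G, orderOf g = 2 → (MulAction.fixedBy Ω g).ncard ≤ f) {S : Subgroup G}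
    (hS : IsPGroup 2 S) {x : G} (hx : x ∈ S) (hx1 : x ≠ 1) :
    (MulAction.fixedBy Ω x).ncard ≤ f := by
  obtain ⟨k, hk⟩ := IsPGroup.iff_orderOf.1 hS ⟨x, hx⟩
  rw [← Subgroup.orderOf_coe] at hk
  have hk' : orderOf x = 2 ^ k := hk
  rcases Nat.eq_zero_or_pos k with h0 | h0
  · rw [h0, pow_zero, orderOf_eq_one_iff] at hk'
    exact absurd hk' hx1
  obtain ⟨m, rfl⟩ := Nat.exists_eq_succ_of_ne_zero h0.ne'
  have h1 : orderOf (x ^ 2 ^ m) = 2 := by
    rw [orderOf_pow_of_dvd (by positivity) (by rw [hk']; exact pow_dvd_pow 2 (Nat.le_succ m)), hk',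
      pow_succ, Nat.mul_div_cancel_left _ (by positivity)]
  exact (Set.ncard_le_ncard (fixedBy_pow_sub x (2 ^ m))).trans (hf _ h1)

theorem card_le_four_of_act [Finite Ω] {C T' : Subgroup G} {Γ : Set Ω} {d : Ω} (hΓ : Γ.ncard = 2)
    (hd : d ∈ Γ) (h : ∀ g ∈ C, ∀ x ∈ Γ, g • x ∈ Γ) (hT' : C ⊓ MulAction.stabilizer G d ≤ T')
    (hcT' : Nat.card T' ≤ 2) : Nat.card C ≤ 4 := by
  have h1 : (C ⊓ kst G Γ).relIndex C ∣ Nat.factorial 2 := by
    refine relIndex_dvd_factorial hΓ h ?_
    intro g hg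
    rw [mem_inf, mem_kst]
    exact ⟨fun h => h.2, fun h => ⟨hg, h⟩⟩
  have h2 : (C ⊓ kst G Γ).relIndex C ≤ 2 := Nat.le_of_dvd (by norm_num) h1
  have h3 := card_mul_relIndex' (inf_le_left : C ⊓ kst G Γ ≤ C)
  have h4 : C ⊓ kst G Γ ≤ T' := le_trans (inf_le_inf_left _ (fun g hg => hg d hd)) hT'
  have h5 := card_le_of_le' h4
  calc Nat.card C = Nat.card (C ⊓ kst G Γ : Subgroup G) * (C ⊓ kst G Γ).relIndex C := h3.symm
    _ ≤ 2 * 2 := Nat.mul_le_mul (h5.trans hcT') h2
    _ = 4 := rfl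

theorem two_small_core [Finite Ω] [IsSimpleGroup G] (hna : ¬ IsMulCommutative G) {f : ℕ}
    (hf1 : 1 ≤ f) (hf3 : f ≤ 3)
    (hf : ∀ g : G, orderOf g = 2 → (MulAction.fixedBy Ω g).ncard ≤ f)
    (S : Sylow 2 G) {t : G} (htS : t ∈ (S : Subgroup G)) (ht : orderOf t = 2)
    (htf : (MulAction.fixedBy Ω t).ncard = f) (b : Ω) (hb : t • b = b)
    (hbS : b ∉ fx Ω (S : Subgroup G)) :
    (∃ n : ℕ, Nonempty ((S : Subgroup G) ≃* DihedralGroup n)) ∨
      Cfsg.IsQuasiDihedral (S : Subgroup G) := by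
  have hSp : IsPGroup 2 (S : Subgroup G) := S.isPGroup'
  have ht1 : t ≠ 1 := by rintro rfl; rw [orderOf_one] at ht; omega
  have hfS : ∀ x ∈ (S : Subgroup G), x ≠ 1 → (MulAction.fixedBy Ω x).ncard ≤ f := fun x hx hx1 =>
    ncard_fixedBy_le hf hSp hx hx1
  have hmodx : ∀ x ∈ (S : Subgroup G), Nat.card Ω % 2 = (MulAction.fixedBy Ω x).ncard % 2 :=
    fun x hx => card_fixedBy_modEq (Ω := Ω) (isPGroup_zpowers_of_mem hSp hx)
  have hmodt := hmodx t htS
  rw [htf] at hmodt
  obtain ⟨T, hT⟩ : ∃ T : Subgroup G, T = (S : Subgroup G) ⊓ MulAction.stabilizer G b := ⟨_, rfl⟩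
  have htT : t ∈ T := by rw [hT]; exact mem_inf.2 ⟨htS, hb⟩
  have hTS : T ≤ (S : Subgroup G) := hT ▸ inf_le_left
  have hTp : IsPGroup 2 T := hSp.to_le hTS
  obtain ⟨Δ, hΔ⟩ : ∃ Δ : Set Ω, Δ = fx Ω T := ⟨_, rfl⟩
  have hbΔ : b ∈ Δ := by
    rw [hΔ]; intro g hg
    rw [hT, mem_inf] at hg; exact hg.2
  have hΔt : Δ ⊆ MulAction.fixedBy Ω t := by rw [hΔ]; exact fx_sub_fixedBy htT
  have hΔle : Δ.ncard ≤ f := htf ▸ Set.ncard_le_ncard hΔt
  have hΔpos : 0 < Δ.ncard := by rw [Set.ncard_pos]; exact ⟨b, hbΔ⟩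
  have hΔmod : Nat.card Ω % 2 = Δ.ncard % 2 := by
    rw [hΔ]; exact card_fx_modEq (Ω := Ω) hTp
  have hSmod : Nat.card Ω % 2 = (fx Ω (S : Subgroup G)).ncard % 2 := card_fx_modEq (Ω := Ω) hSp
  -- the moved pair `Γ`
  have hSΔ : fx Ω (S : Subgroup G) ⊆ Δ := by rw [hΔ]; exact fx_anti hTS
  obtain ⟨hΔf, Γ, hΓΔ, hbΓ, hΓ2, hΓS⟩ : Δ.ncard = f ∧ ∃ Γ : Set Ω, Γ ⊆ Δ ∧ b ∈ Γ ∧ Γ.ncard = 2 ∧
      ∀ x ∈ Δ, x ∉ Γ → ∀ g ∈ (S : Subgroup G), g • x = x := by
    have hcases : f = 1 ∨ f = 2 ∨ f = 3 := by omega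
    rcases hcases with rfl | rfl | rfl
    · exfalso
      have h1 : 0 < (fx Ω (S : Subgroup G)).ncard := by omega
      rw [Set.ncard_pos] at h1
      obtain ⟨c, hc⟩ := h1
      have h2 : Δ.ncard = 1 := by omega
      obtain ⟨d, hd⟩ := Set.ncard_eq_one.1 h2
      have h3 := hSΔ hc
      rw [hd] at h3 hbΔ
      have h4 : b = c := by
        rw [Set.mem_singleton_iff] at h3 hbΔ
        rw [h3, hbΔ]
      exact hbS (h4 ▸ hc)
    · have h2 : Δ.ncard = 2 := by omega
      exact ⟨h2, Δ, le_refl _, hbΔ, h2, fun x hx hx' => absurd hx hx'⟩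
    · have h1 : 0 < (fx Ω (S : Subgroup G)).ncard := by omega
      rw [Set.ncard_pos] at h1
      obtain ⟨a, ha⟩ := h1
      have hab : a ≠ b := by rintro rfl; exact hbS ha
      have h2 : 2 ≤ Δ.ncard := by
        rw [← Set.ncard_pair hab]
        refine Set.ncard_le_ncard ?_ (Set.toFinite _)
        intro x hx
        rcases hx with rfl | hx
        · exact hSΔ ha
        · rw [Set.mem_singleton_iff.1 hx]; exact hbΔ
      have h3 : Δ.ncard = 3 := by omega
      refine ⟨h3, Δ \ {a}, Set.sdiff_subset, ⟨hbΔ, hab.symm⟩, ?_, ?_⟩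
      · rw [Set.ncard_sdiff_singleton_of_mem (hSΔ ha), h3]
      · intro x hx hx' g hg
        have : x = a := by
          by_contra hxa
          exact hx' ⟨hx, hxa⟩
        rw [this]; exact ha g hg
  have hfixT : ∀ x ∈ T, x ≠ 1 → MulAction.fixedBy Ω x = Δ := by
    intro x hx hx1
    symm
    refine Set.eq_of_subset_of_ncard_le (by rw [hΔ]; exact fx_sub_fixedBy hx) ?_ (Set.toFinite _)
    rw [hΔf]; exact hfS x (hTS hx) hx1
  have hTK : T = (S : Subgroup G) ⊓ kst G Δ := by
    apply le_antisymm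
    · refine le_inf hTS ?_
      intro g hg x hx
      rw [hΔ] at hx
      exact hx g hg
    · rw [hT]
      exact inf_le_inf_left _ (fun g hg => hg b hbΔ)
  have hpres : ∀ g ∈ (S : Subgroup G) ⊓ mst G Δ, ∀ x ∈ Γ, g • x ∈ Γ := by
    intro g hg x hx
    rw [mem_inf] at hg
    by_contra h
    have h1 : g • x ∈ Δ := (hg.2 x).2 (hΓΔ hx)
    have h2 := hΓS _ h1 h g hg.1
    have h3 : g • x = x := MulAction.injective g h2
    rw [h3] at h
    exact h hx
  have hker : ∀ g ∈ (S : Subgroup G) ⊓ mst G Δ, g ∈ T ↔ ∀ x ∈ Γ, g • x = x := by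
    intro g hg
    rw [mem_inf] at hg
    rw [hTK, mem_inf, mem_kst]
    constructor
    · intro h x hx; exact h.2 x (hΓΔ hx)
    · intro h
      refine ⟨hg.1, fun x hx => ?_⟩
      by_cases hxΓ : x ∈ Γ
      · exact h x hxΓ
      · exact hΓS x hx hxΓ g hg.1
  obtain ⟨D, hD⟩ : ∃ D : Subgroup G, D = (S : Subgroup G) ⊓ mst G Δ := ⟨_, rfl⟩
  rw [← hD] at hpres hker
  have hDS : D ≤ (S : Subgroup G) := hD ▸ inf_le_left
  have hTD : T ≤ D := by
    rw [hTK, hD]; exact inf_le_inf_left _ (kst_le_mst Δ)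
  have hrel : T.relIndex D ≤ 2 := Nat.le_of_dvd (by norm_num) (relIndex_dvd_factorial hΓ2 hpres hker)
  have hcD := card_mul_relIndex' hTD
  have hTpos : 0 < Nat.card T := Nat.card_pos
  have hcent : (S : Subgroup G) ⊓ centralizer ({t} : Set G) ≤ D := by
    intro g hg
    rw [mem_inf, mem_centralizer_singleton_iff] at hg
    rw [hD, mem_inf]
    refine ⟨hg.1, mem_mst_of_fixedBy (hfixT t htT ht1) ?_⟩
    have : g * t * g⁻¹ = t := by rw [hg.2]; group
    rw [this]; exact hfixT t htT ht1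
  by_cases hSM : (S : Subgroup G) ≤ mst G Δ
  · -- `T` is normal in `S`
    have hDeq : D = (S : Subgroup G) := by rw [hD]; exact inf_eq_left.2 hSM
    rw [hDeq] at hpres hker hrel hcD
    -- an element moving `b`
    obtain ⟨s₀, hs₀, hs₀b⟩ : ∃ s ∈ (S : Subgroup G), s • b ≠ b := by
      by_contra h
      push Not at h
      exact hbS h
    by_cases hfree : ∀ s ∈ (S : Subgroup G), s ≠ 1 → ∀ x ∉ Δ, s • x ≠ x
    · exfalso
      have h1 : s₀ • b ∈ Γ := hpres s₀ hs₀ b hbΓ
      have hΓeq : Γ = {b, s₀ • b} := by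
        symm
        refine Set.eq_of_subset_of_ncard_le ?_ ?_ (Set.toFinite _)
        · intro x hx
          rcases hx with rfl | hx
          · exact hbΓ
          · rw [Set.mem_singleton_iff.1 hx]; exact h1
        · rw [hΓ2, Set.ncard_pair hs₀b.symm]
      have h2 : s₀ • s₀ • b = b := by
        have h3 := hpres s₀ hs₀ _ h1
        rw [hΓeq] at h3
        rcases h3 with h3 | h3
        · exact h3
        · exfalso
          exact hs₀b (MulAction.injective s₀ (Set.mem_singleton_iff.1 h3))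
      refine Cfsg.Agent.H755.sign_contra hna S Δ hfree s₀ hs₀ b (s₀ • b) hs₀b.symm hbΔ (hΓΔ h1) rfl h2 ?_ ?_
      · intro x hx hxb hxc
        apply hΓS x hx _ s₀ hs₀
        rw [hΓeq]
        rintro (h4 | h4)
        · exact hxb h4
        · exact hxc (Set.mem_singleton_iff.1 h4)
      · intro g hg x hx
        exact (hSM hg x).2 hx
    · push Not at hfree
      obtain ⟨s, hs, hs1, d, hdΔ, hsd⟩ := hfree
      obtain ⟨T', hT'⟩ : ∃ T' : Subgroup G, T' = (S : Subgroup G) ⊓ MulAction.stabilizer G d :=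
        ⟨_, rfl⟩
      have hTT' : T ⊓ T' = ⊥ := by
        rw [eq_bot_iff]
        intro x hx
        rw [mem_inf, hT', mem_inf] at hx
        rw [mem_bot]
        by_contra hx1
        have h1 : d ∈ MulAction.fixedBy Ω x := hx.2.2
        rw [hfixT x hx.1 hx1] at h1
        exact hdΔ h1
      have hT'S : T' ≤ (S : Subgroup G) := hT' ▸ inf_le_left
      have hcm := card_mul_le_of_disjoint hTS hT'S hTT'
      have hcT' : Nat.card T' ≤ 2 := by
        rw [← hcD] at hcm
        exact (Nat.le_of_mul_le_mul_left hcm hTpos).trans hrel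
      have hsT' : s ∈ T' := by rw [hT', mem_inf]; exact ⟨hs, hsd⟩
      have hso : orderOf s = 2 := by
        have h1 : orderOf s ≤ 2 := by
          have h2 : orderOf (⟨s, hsT'⟩ : T') ∣ Nat.card T' := orderOf_dvd_natCard _
          rw [← Subgroup.orderOf_coe] at h2
          exact (Nat.le_of_dvd Nat.card_pos h2).trans hcT'
        have h2 : orderOf s ≠ 1 := fun h => hs1 (orderOf_eq_one_iff.1 h)
        have h3 : 0 < orderOf s := orderOf_pos s
        omega
      have hFs := hmodx s hs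
      have hFsle := hfS s hs hs1
      have hdF : d ∈ MulAction.fixedBy Ω s := hsd
      have hFspos : 0 < (MulAction.fixedBy Ω s).ncard := by
        rw [Set.ncard_pos]; exact ⟨d, hdF⟩
      apply dih_of_centralizer hna S hs hso
      -- the centralizer preserves `F s`
      have hpresF : ∀ g ∈ (S : Subgroup G) ⊓ centralizer ({s} : Set G), ∀ x ∈ MulAction.fixedBy Ω s,
          g • x ∈ MulAction.fixedBy Ω s := by
        intro g hg x hx
        rw [mem_inf, mem_centralizer_singleton_iff] at hg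
        rw [mem_fixedBy'] at hx ⊢
        rw [← mul_smul, ← hg.2, mul_smul, hx]
      have hcases : f = 2 ∨ f = 3 := by
        rcases (by omega : f = 1 ∨ f = 2 ∨ f = 3) with h | h | h
        · exfalso
          have h5 := Set.ncard_le_ncard hΓΔ
          omega
        · exact Or.inl h
        · exact Or.inr h
      rcases hcases with rfl | rfl
      · exact card_le_four_of_act (Γ := MulAction.fixedBy Ω s) (T' := T') (d := d) (by omega) hdF hpresF
          (by rw [hT']; exact inf_le_inf_right _ inf_le_left) hcT'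
      · have h1 : 0 < (fx Ω (S : Subgroup G)).ncard := by omega
        rw [Set.ncard_pos] at h1
        obtain ⟨a, ha⟩ := h1
        have had : a ≠ d := by rintro rfl; exact hdΔ (hSΔ ha)
        have haF : a ∈ MulAction.fixedBy Ω s := ha s hs
        have h2 : 2 ≤ (MulAction.fixedBy Ω s).ncard := by
          rw [← Set.ncard_pair had]
          refine Set.ncard_le_ncard ?_ (Set.toFinite _)
          intro x hx
          rcases hx with rfl | hx
          · exact haF
          · rw [Set.mem_singleton_iff.1 hx]; exact hdF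
        refine card_le_four_of_act (Γ := MulAction.fixedBy Ω s \ {a}) (T' := T') (d := d) ?_
          ⟨hdF, had.symm⟩ ?_ (by rw [hT']; exact inf_le_inf_right _ inf_le_left) hcT'
        · rw [Set.ncard_sdiff_singleton_of_mem haF]; omega
        · intro g hg x hx
          refine ⟨hpresF g hg x hx.1, ?_⟩
          intro h
          apply hx.2
          have h5 : g • x = g • a := by
            rw [ha g (mem_inf.1 hg).1]; exact h
          exact MulAction.injective g h5
  · -- `D < S`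
    have hDlt : D < (S : Subgroup G) := by
      refine lt_of_le_of_ne hDS ?_
      intro h
      apply hSM
      rw [← h, hD]; exact inf_le_right
    have h1 := lt_inf_normalizer hSp hDlt
    obtain ⟨g, hg, hgD⟩ := SetLike.exists_of_lt h1
    rw [mem_inf] at hg
    have hgM : g ∉ mst G Δ := fun h => hgD (by rw [hD]; exact mem_inf.2 ⟨hg.1, h⟩)
    have hT'D : T.map (MulAut.conj g).toMonoidHom ≤ D := by
      rintro _ ⟨x, hx, rfl⟩
      exact (mem_normalizer_iff.1 hg.2 x).1 (hTD hx)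
    have hTT' : T ⊓ T.map (MulAut.conj g).toMonoidHom = ⊥ := by
      rw [eq_bot_iff]
      intro u hu
      rw [mem_inf, mem_map_conj] at hu
      rw [mem_bot]
      by_contra hu1
      have h2 : g⁻¹ * u * g ≠ 1 := by
        intro h2
        apply hu1
        have : u = g * (g⁻¹ * u * g) * g⁻¹ := by group
        rw [this, h2]; simp
      apply hgM
      rw [← inv_mem_iff]
      refine mem_mst_of_fixedBy (hfixT u hu.1 hu1) ?_
      rw [inv_inv]
      exact hfixT _ hu.2 h2
    have hcm := card_mul_le_of_disjoint hTD hT'D hTT'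
    rw [card_map_conj] at hcm
    have hT2 : Nat.card T ≤ 2 := by
      rw [← hcD] at hcm
      exact (Nat.le_of_mul_le_mul_left hcm hTpos).trans hrel
    have hD4 : Nat.card D ≤ 4 := by
      rw [← hcD]
      exact Nat.mul_le_mul hT2 hrel
    exact dih_of_centralizer hna S htS ht ((card_le_of_le' hcent).trans hD4)

theorem two_small [Finite Ω] [IsSimpleGroup G] [FaithfulSMul G Ω] (hna : ¬ IsMulCommutative G)
    (htrans : MulAction.IsPretransitive G Ω) {f : ℕ} (hf1 : 1 ≤ f) (hf3 : f ≤ 3)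
    (hf : ∀ g : G, orderOf g = 2 → (MulAction.fixedBy Ω g).ncard ≤ f)
    (hf' : ∃ g : G, orderOf g = 2 ∧ (MulAction.fixedBy Ω g).ncard = f) (S : Sylow 2 G) :
    (∃ H : Subgroup G, Cfsg.IsStronglyEmbedded H) ∨
      ((∃ n : ℕ, Nonempty ((S : Subgroup G) ≃* DihedralGroup n)) ∨
        Cfsg.IsQuasiDihedral (S : Subgroup G)) := by
  obtain ⟨g, hg2, hgf⟩ := hf'
  obtain ⟨k, -, hk⟩ := exists_conj_mem S (H := ⊤) le_top (mem_top g)
    (isPGroup_zpowers_of_orderOf (n := 1) (by rw [pow_one]; exact hg2))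
  obtain ⟨t, ht⟩ : ∃ t, t = k * g * k⁻¹ := ⟨_, rfl⟩
  rw [← ht] at hk
  have ht2 : orderOf t = 2 := by
    rw [ht, ← hg2]
    have := (MulAut.conj k).orderOf_eq g
    simpa using this
  have htf : (MulAction.fixedBy Ω t).ncard = f := by rw [ht, ncard_fixedBy_conj, hgf]
  by_cases hsub : MulAction.fixedBy Ω t ⊆ fx Ω (S : Subgroup G)
  · left
    refine ⟨mst G (fx Ω (S : Subgroup G)), ?_⟩
    have h2G : 2 ∣ Nat.card G := hg2 ▸ orderOf_dvd_natCard g
    have h := strongly_emb htrans S h2G (fx Ω (S : Subgroup G)) ?_ ?_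
    · refine ⟨h.1, even_iff_two_dvd.2 h.2.1, fun g hg => ?_⟩
      have h3 := h.2.2 g hg
      rwa [← even_iff_two_dvd, Nat.not_even_iff_odd] at h3
    · rw [← Set.ncard_pos]
      have := Set.ncard_le_ncard hsub
      omega
    · intro x hx hx1
      symm
      refine Set.eq_of_subset_of_ncard_le (fx_sub_fixedBy hx) ?_ (Set.toFinite _)
      refine (ncard_fixedBy_le hf S.isPGroup' hx hx1).trans ?_
      rw [← htf]; exact Set.ncard_le_ncard hsub
  · right
    rw [Set.not_subset] at hsub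
    obtain ⟨b, hb, hbS⟩ := hsub
    exact two_small_core hna hf1 hf3 hf S hk ht2 htf b hb hbS

end Cfsg.Agent.H350.Fix
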