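import Mathlib
import Cfsg.Agent.H755.RankSR
import Cfsg.Agent.H755.RankSRb
import Cfsg.Agent.H350.FixRank
import Cfsg.Agent.H350.FixPerm
import Cfsg.Agent.H350.FixTwoB

/-!
# Fixity 4: an involution with four fixed points
-/

set_option autoImplicit false

namespace Cfsg.Agent.H350.Fix

open Subgroup Cfsg.Agent.Lib.GoldschmidtFusion

variable {G Ω : Type*} [Group G] [Finite G] [MulAction G Ω]

omit [Finite G] in
theorem card_subgroupOf' {A S : Subgroup G} (h : A ≤ S) : Nat.card (A.subgroupOf S) = Nat.card A :=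
  Nat.card_congr (subgroupOfEquivOfLe h).toEquiv

theorem rank_SR_sub (S : Subgroup G) (hS : IsPGroup 2 S) (X Y : Subgroup G) (hXS : X ≤ S)
    (hX : ∀ x ∈ X, ∀ y ∈ X, x * y = y * x) (hX16 : Nat.card X = 16) (hYX : Y ≤ X)
    (hY4 : Nat.card Y = 4)
    (hTI : ∀ g ∈ S, g ∉ X → ∀ y ∈ Y, g * y * g⁻¹ ∈ Y → y = 1) :
    Cfsg.SectionalPRankLE 2 4 S := by
  have hYS : Y ≤ S := hYX.trans hXS
  have hY1 : Y ≠ ⊥ := by
    rintro h
    rw [h, card_bot] at hY4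
    omega
  obtain ⟨y₀, hy₀, hy₀1⟩ := exists_mem_ne_one hY1
  refine Cfsg.Agent.H755.Rk.rank_SR hS (X.subgroupOf S) (Y.subgroupOf S) ?_ ?_ ?_ ?_ ?_ ?_
  · intro x hx y hy
    exact Subtype.ext (hX x hx y hy)
  · rw [card_subgroupOf' hXS, hX16]
  · exact fun x hx => hYX hx
  · rw [card_subgroupOf' hYS, hY4]
  · apply le_antisymm
    · intro g hg
      by_contra hgX
      have h1 := (mem_normalizer_iff.1 hg ⟨y₀, hYS hy₀⟩).1 (by rw [mem_subgroupOf]; exact hy₀)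
      exact hy₀1 (hTI g g.2 hgX y₀ hy₀ h1)
    · intro g hg
      rw [mem_normalizer_iff]
      intro x
      rw [mem_subgroupOf] at hg
      constructor
      · intro hx
        have h1 : g * x * g⁻¹ = x := by
          have : g * x = x * g := Subtype.ext (hX g hg x (hYX hx))
          rw [this]; group
        rw [h1]; exact hx
      · intro hx
        have hx' : (g : G) * x * (g : G)⁻¹ ∈ Y := hx
        have h2 : (x : G) ∈ X := by
          have h3 := X.mul_mem (X.mul_mem (X.inv_mem hg) (hYX hx')) hg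
          have e : (g : G)⁻¹ * (g * x * (g : G)⁻¹) * g = x := by group
          rwa [e] at h3
        have h1 : g * x * g⁻¹ = x := by
          have : g * x = x * g := Subtype.ext (hX g hg x h2)
          rw [this]; group
        rwa [h1] at hx
  · intro g hg y hy hgy
    apply Subtype.ext
    exact hTI g g.2 hg y hy hgy

theorem rank_SR2_sub (S : Subgroup G) (hS : IsPGroup 2 S) (E Y Y' : Subgroup G) (hES : E ≤ S)
    (hE32 : Nat.card E = 32) (hYE : Y ≤ E) (hY'E : Y' ≤ E)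
    (hY4 : Nat.card Y = 4) (hY'4 : Nat.card Y' = 4) (hiso : Nonempty (Y ≃* Y'))
    (hdisj : Y ⊓ Y' = ⊥) (hnormY : ∀ g ∈ E, ∀ y ∈ Y, g * y * g⁻¹ ∈ Y)
    (hnormY' : ∀ g ∈ E, ∀ y ∈ Y', g * y * g⁻¹ ∈ Y')
    (hTI : ∀ g ∈ S, g ∉ E → ∀ y ∈ Y, g * y * g⁻¹ ∈ Y → y = 1)
    (hact : ∀ e ∈ E, e ∉ Y ⊔ Y' → (∃ y ∈ Y, e * y ≠ y * e) ∧ (∃ y ∈ Y', e * y ≠ y * e)) :
    Cfsg.SectionalPRankLE 2 4 S := by
  have hYS : Y ≤ S := hYE.trans hES
  have hY'S : Y' ≤ S := hY'E.trans hES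
  have hY1 : Y ≠ ⊥ := by
    rintro h
    rw [h, card_bot] at hY4
    omega
  obtain ⟨y₀, hy₀, hy₀1⟩ := exists_mem_ne_one hY1
  obtain ⟨iso⟩ := hiso
  refine Cfsg.Agent.H755.Rk.rank_SR2 hS (E.subgroupOf S) (Y.subgroupOf S) (Y'.subgroupOf S)
    ?_ ?_ ?_ ?_ ?_ ?_ ?_ ?_ ?_ ?_ ?_
  · rw [card_subgroupOf' hES, hE32]
  · exact fun x hx => hYE hx
  · exact fun x hx => hY'E hx
  · rw [card_subgroupOf' hYS, hY4]
  · rw [card_subgroupOf' hY'S, hY'4]
  · exact ⟨((subgroupOfEquivOfLe hYS).trans iso).trans (subgroupOfEquivOfLe hY'S).symm⟩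
  · rw [eq_bot_iff]
    intro x hx
    rw [mem_inf, mem_subgroupOf, mem_subgroupOf] at hx
    have h1 : (x : G) ∈ Y ⊓ Y' := mem_inf.2 hx
    rw [hdisj, mem_bot] at h1
    rw [mem_bot]
    exact Subtype.ext h1
  · intro g hg y hy
    exact hnormY' g hg y hy
  · apply le_antisymm
    · intro g hg
      by_contra hgX
      have h1 := (mem_normalizer_iff.1 hg ⟨y₀, hYS hy₀⟩).1 (by rw [mem_subgroupOf]; exact hy₀)
      exact hy₀1 (hTI g g.2 hgX y₀ hy₀ h1)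
    · intro g hg
      rw [mem_normalizer_iff]
      intro x
      rw [mem_subgroupOf] at hg
      constructor
      · intro hx
        exact hnormY g hg x hx
      · intro hx
        have hx' : (g : G) * x * (g : G)⁻¹ ∈ Y := hx
        have h3 := hnormY _ (E.inv_mem hg) _ hx'
        have e : (g : G)⁻¹ * (g * x * (g : G)⁻¹) * (g : G)⁻¹⁻¹ = x := by group
        rw [e] at h3
        exact h3
  · intro g hg y hy hgy
    apply Subtype.ext
    exact hTI g g.2 hg y hy hgy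
  · intro e he hne
    have h1 : (e : G) ∉ Y ⊔ Y' := by
      intro h
      apply hne
      rw [← subgroupOf_sup hYS hY'S, mem_subgroupOf]
      exact h
    obtain ⟨⟨y, hy, hy1⟩, ⟨z, hz, hz1⟩⟩ := hact e he h1
    exact ⟨⟨⟨y, hYS hy⟩, hy, fun h => hy1 (congrArg Subtype.val h)⟩,
      ⟨⟨z, hY'S hz⟩, hz, fun h => hz1 (congrArg Subtype.val h)⟩⟩

omit [Finite G] in
theorem mem_sup_of_commute {A B : Subgroup G} (h : ∀ a ∈ A, ∀ b ∈ B, a * b = b * a) {x : G}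
    (hx : x ∈ A ⊔ B) : ∃ b ∈ B, ∃ a ∈ A, x = b * a := by
  let D : Subgroup G :=
    { carrier := {x | ∃ b ∈ B, ∃ a ∈ A, x = b * a}
      one_mem' := ⟨1, B.one_mem, 1, A.one_mem, by simp⟩
      mul_mem' := by
        rintro _ _ ⟨b, hb, a, ha, rfl⟩ ⟨b', hb', a', ha', rfl⟩
        refine ⟨b * b', B.mul_mem hb hb', a * a', A.mul_mem ha ha', ?_⟩
        have := h a ha b' hb'
        calc b * a * (b' * a') = b * (a * b') * a' := by group
          _ = b * (b' * a) * a' := by rw [this]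
          _ = b * b' * (a * a') := by group
      inv_mem' := by
        rintro _ ⟨b, hb, a, ha, rfl⟩
        refine ⟨b⁻¹, B.inv_mem hb, a⁻¹, A.inv_mem ha, ?_⟩
        rw [mul_inv_rev]
        exact h _ (A.inv_mem ha) _ (B.inv_mem hb) }
  have h1 : A ⊔ B ≤ D := sup_le (fun a ha => ⟨1, B.one_mem, a, ha, by simp⟩)
    (fun b hb => ⟨b, hb, 1, A.one_mem, by simp⟩)
  exact h1 hx

omit [Finite G] in
theorem quot_comm {N A B : Subgroup G} {e : G} (hAN : A ≤ N) (hBN : B ≤ N) (he : e ∈ N)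
    (hAn : ∀ g ∈ N, ∀ a ∈ A, g * a * g⁻¹ ∈ A) (hB : ∀ a ∈ B, ∀ b ∈ B, a * b = b * a)
    (hAB : ∀ a ∈ A, ∀ b ∈ B, a * b = b * a) (hidx : (A ⊔ B).relIndex N = 2) (heD : e ∉ A ⊔ B)
    (heB : ∀ b ∈ B, e * b = b * e) : ∀ a ∈ N, ∀ b ∈ N, a * b * a⁻¹ * b⁻¹ ∈ A := by
  have key : ∀ a ∈ N, ∃ c ∈ N, ∃ x ∈ A, a = c * x ∧ ∃ b ∈ B, c = b ∨ c = b * e := by
    intro a ha
    by_cases haD : a ∈ A ⊔ B
    · obtain ⟨b, hb, x, hx, rfl⟩ := mem_sup_of_commute hAB haD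
      exact ⟨b, hBN hb, x, hx, rfl, b, hb, Or.inl rfl⟩
    · have h1 : a * e⁻¹ ∈ A ⊔ B := by
        have h9 := (mul_mem_iff_of_index_two (H := (A ⊔ B).subgroupOf N) hidx
          (a := ⟨a, ha⟩) (b := ⟨e⁻¹, N.inv_mem he⟩))
        simp only [mem_subgroupOf, inv_mem_iff] at h9
        exact h9.2 ⟨fun h => absurd h haD, fun h => absurd h heD⟩
      obtain ⟨b, hb, x, hx, hbx⟩ := mem_sup_of_commute hAB h1
      refine ⟨b * e, N.mul_mem (hBN hb) he, e⁻¹ * x * e⁻¹⁻¹, hAn _ (N.inv_mem he) x hx, ?_, b, hb, Or.inr rfl⟩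
      have : a = b * x * e := by rw [← hbx]; group
      rw [this]; group
  intro a ha b hb
  obtain ⟨c, hc, x, hx, rfl, u, hu, hcu⟩ := key a ha
  obtain ⟨d, hd, y, hy, rfl, v, hv, hdv⟩ := key b hb
  have hcd : c * d = d * c := by
    have c1 : Commute u v := hB u hu v hv
    have c2 : Commute e u := heB u hu
    have c3 : Commute e v := heB v hv
    have c4 : Commute e e := Commute.refl e
    rcases hcu with rfl | rfl <;> rcases hdv with rfl | rfl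
    · exact c1
    · exact c1.mul_right c2.symm
    · exact c1.mul_left c3
    · exact (c1.mul_right c2.symm).mul_left (c3.mul_right c4)
  have e1 : c * x * (d * y) * (c * x)⁻¹ * (d * y)⁻¹ =
      (c * x * c⁻¹) * ((c * d) * (y * x⁻¹) * (c * d)⁻¹) * (c * d * c⁻¹ * y⁻¹ * d⁻¹) := by group
  have e2 : c * d * c⁻¹ * y⁻¹ * d⁻¹ = d * y⁻¹ * d⁻¹ := by rw [hcd]; group
  rw [e1, e2]
  exact A.mul_mem (A.mul_mem (hAn c hc x hx)
    (hAn _ (N.mul_mem hc hd) _ (A.mul_mem hy (A.inv_mem hx)))) (hAn d hd _ (A.inv_mem hy))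

omit [Finite G] in
theorem kst_fixedBy [Finite Ω] (hfix : ∀ g : G, g ≠ 1 → (MulAction.fixedBy Ω g).ncard ≤ 4)
    {Δ : Set Ω} (hΔ : Δ.ncard = 4) {y : G} (hy : y ∈ kst G Δ) (hy1 : y ≠ 1) :
    MulAction.fixedBy Ω y = Δ := by
  symm
  exact Set.eq_of_subset_of_ncard_le (fun z hz => hy z hz) (by rw [hΔ]; exact hfix y hy1)
    (Set.toFinite _)

/-- a group of elements without fixed points on `Δ'` preserving `Δ'` -/
theorem card_le_of_semireg [Finite Ω] {L : Subgroup G} {Δ Δ' : Set Ω} {x : Ω} (hx : x ∈ Δ')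
    (hxΔ : x ∉ Δ) (hL : ∀ y ∈ L, y ≠ 1 → MulAction.fixedBy Ω y = Δ)
    (hpres : ∀ y ∈ L, ∀ z ∈ Δ', y • z ∈ Δ') : Nat.card L ≤ Δ'.ncard := by
  have h1 : Nat.card L ≤ Nat.card Δ' := by
    refine Nat.card_le_card_of_injective (fun l : L => (⟨(l : G) • x, hpres l l.2 x hx⟩ : Δ')) ?_
    intro a b hab
    have h2 : (a : G) • x = (b : G) • x := congrArg Subtype.val hab
    by_contra hne
    have h3 : (b : G)⁻¹ * a ≠ 1 := by
      intro h
      apply hne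
      apply Subtype.ext
      rw [inv_mul_eq_one] at h
      exact h.symm
    have h4 := hL _ (L.mul_mem (L.inv_mem b.2) a.2) h3
    have h5 : x ∈ MulAction.fixedBy Ω ((b : G)⁻¹ * a) := by
      rw [mem_fixedBy', mul_smul, h2, inv_smul_smul]
    rw [h4] at h5
    exact hxΔ h5
  exact h1

theorem comm_of_card_four {A : Subgroup G} (h : Nat.card A = 4) : ∀ a ∈ A, ∀ b ∈ A, a * b = b * a := by
  intro a ha b hb
  have : Fact (Nat.Prime 2) := ⟨Nat.prime_two⟩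
  have h1 := IsPGroup.isMulCommutative_of_card_eq_prime_sq (p := 2) (G := A) (by rw [h]; norm_num)
  exact congrArg Subtype.val (h1.is_comm.comm ⟨a, ha⟩ ⟨b, hb⟩)

theorem alpha [Finite Ω] (hfix : ∀ g : G, g ≠ 1 → (MulAction.fixedBy Ω g).ncard ≤ 4)
    {S : Subgroup G} (hS : IsPGroup 2 S) {Δ Δ' : Set Ω} (hΔ : Δ.ncard = 4) (hΔ'4 : Δ'.ncard = 4)
    (hdis : ∀ x ∈ Δ, x ∉ Δ') {X₀ Y : Subgroup G} (hX₀S : X₀ ≤ S) (hX₀K : X₀ ≤ kst G Δ)
    (hX₀M : X₀ ≤ mst G Δ') (hX₀4 : Nat.card X₀ = 4) (hY : Y = S ⊓ kst G Δ')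
    {n : G} (hYX : Y = X₀.map (MulAut.conj n).toMonoidHom) (hN : S ⊓ mst G Δ' ≤ mst G Δ) :
    Cfsg.SectionalPRankLE 2 4 S := by
  obtain ⟨x₁, hx₁⟩ : Δ.Nonempty := by rw [← Set.ncard_pos]; omega
  obtain ⟨x₂, hx₂⟩ : Δ'.Nonempty := by rw [← Set.ncard_pos]; omega
  have hx₂Δ : x₂ ∉ Δ := fun h => hdis x₂ h hx₂
  have hfixX : ∀ y ∈ X₀, y ≠ 1 → MulAction.fixedBy Ω y = Δ := fun y hy hy1 =>
    kst_fixedBy hfix hΔ (hX₀K hy) hy1
  have hYK : Y ≤ kst G Δ' := hY ▸ inf_le_right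
  have hYS : Y ≤ S := hY ▸ inf_le_left
  have hfixY : ∀ y ∈ Y, y ≠ 1 → MulAction.fixedBy Ω y = Δ' := fun y hy hy1 =>
    kst_fixedBy hfix hΔ'4 (hYK hy) hy1
  have hY4 : Nat.card Y = 4 := by rw [hYX, card_map_conj, hX₀4]
  obtain ⟨N, hNdef⟩ : ∃ N : Subgroup G, N = S ⊓ mst G Δ' := ⟨_, rfl⟩
  rw [← hNdef] at hN
  have hNS : N ≤ S := hNdef ▸ inf_le_left
  have hNM' : N ≤ mst G Δ' := hNdef ▸ inf_le_right
  have hX₀N : X₀ ≤ N := by rw [hNdef]; exact le_inf hX₀S hX₀M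
  have hYN : Y ≤ N := by rw [hNdef]; exact le_inf hYS (hYK.trans (kst_le_mst _))
  have hNp : IsPGroup 2 N := hS.to_le hNS
  have hL : N ⊓ kst G Δ = X₀ := by
    symm
    apply Subgroup.eq_of_le_of_card_ge (le_inf hX₀N hX₀K)
    rw [hX₀4, ← hΔ'4]
    refine card_le_of_semireg (Δ := Δ) hx₂ hx₂Δ ?_ ?_
    · intro y hy hy1
      exact kst_fixedBy hfix hΔ (mem_inf.1 hy).2 hy1
    · intro y hy z hz
      exact ((hNM' (mem_inf.1 hy).1) z).2 hz
  have hXn : ∀ g ∈ N, ∀ a ∈ X₀, g * a * g⁻¹ ∈ X₀ := by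
    intro g hg a ha
    rw [← hL, mem_inf]
    exact ⟨mul_mem (mul_mem hg (hX₀N ha)) (inv_mem hg), mst_kst_normal (hN hg) (hX₀K ha)⟩
  have hYn : ∀ g ∈ N, ∀ a ∈ Y, g * a * g⁻¹ ∈ Y := by
    intro g hg a ha
    rw [hY, mem_inf]
    exact ⟨mul_mem (mul_mem (hNS hg) (hYS ha)) (inv_mem (hNS hg)), mst_kst_normal (hNM' hg) (hYK ha)⟩
  have hdisj : Y ⊓ X₀ = ⊥ := by
    rw [eq_bot_iff]
    intro y hy
    rw [mem_inf] at hy
    rw [mem_bot]
    by_contra hy1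
    have h1 := hfixX y hy.2 hy1
    rw [hfixY y hy.1 hy1] at h1
    apply hdis x₁ hx₁
    rw [h1]; exact hx₁
  have hcomm : ∀ a ∈ Y, ∀ b ∈ X₀, a * b = b * a := by
    intro a ha b hb
    have h1 : a * b * a⁻¹ * b⁻¹ ∈ Y ⊓ X₀ := by
      refine mem_inf.2 ⟨?_, mul_mem (hXn a (hYN ha) b hb) (inv_mem hb)⟩
      have e : a * b * a⁻¹ * b⁻¹ = a * (b * a⁻¹ * b⁻¹) := by group
      rw [e]
      exact mul_mem ha (hYn b (hX₀N hb) _ (inv_mem ha))
    rw [hdisj, mem_bot] at h1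
    have h3 := mul_inv_eq_one.1 h1
    rwa [mul_inv_eq_iff_eq_mul] at h3
  have hcomm' : ∀ b ∈ X₀, ∀ a ∈ Y, b * a = a * b := fun b hb a ha => (hcomm a ha b hb).symm
  have hYc := comm_of_card_four hY4
  have hXc := comm_of_card_four hX₀4
  have hkY : ∀ g ∈ N, g ∈ Y ↔ ∀ x ∈ Δ', g • x = x := by
    intro g hg
    rw [hY, mem_inf]
    exact ⟨fun h => h.2, fun h => ⟨hNS hg, h⟩⟩
  have hkX : ∀ g ∈ N, g ∈ X₀ ↔ ∀ x ∈ Δ, g • x = x := by
    intro g hg
    rw [← hL, mem_inf]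
    exact ⟨fun h => h.2, fun h => ⟨hg, h⟩⟩
  have hpY : ∀ g ∈ N, ∀ x ∈ Δ', g • x ∈ Δ' := fun g hg x hx => (hNM' hg x).2 hx
  have hpX : ∀ g ∈ N, ∀ x ∈ Δ, g • x ∈ Δ := fun g hg x hx => (hN hg x).2 hx
  have hrel : Y.relIndex N ∣ 8 := relIndex_dvd_eight hNp hYN hΔ'4 hpY hkY
  have hcN := card_mul_relIndex' hYN
  rw [hY4] at hcN
  have hcm := card_mul_le_of_disjoint hYN hX₀N hdisj
  rw [hY4, hX₀4] at hcm
  have hTI : ∀ g ∈ S, g ∉ N → ∀ y ∈ Y, g * y * g⁻¹ ∈ Y → y = 1 := by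
    intro g hg hgN y hy hgy
    by_contra hy1
    apply hgN
    rw [hNdef, mem_inf]
    refine ⟨hg, mem_mst_of_fixedBy (hfixY y hy hy1) (hfixY _ hgy ?_)⟩
    intro h
    apply hy1
    have : y = g⁻¹ * (g * y * g⁻¹) * g := by group
    rw [this, h]; simp
  have hcsup := card_mul_le_of_disjoint (D := Y ⊔ X₀) le_sup_left le_sup_right hdisj
  rw [hY4, hX₀4] at hcsup
  have hsupN : Y ⊔ X₀ ≤ N := sup_le hYN hX₀N
  have h8 : Y.relIndex N = 4 ∨ Y.relIndex N = 8 := by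
    have h9 : Y.relIndex N ∈ Nat.divisors 8 := Nat.mem_divisors.2 ⟨hrel, by norm_num⟩
    have h10 : Nat.divisors 8 = {1, 2, 4, 8} := by decide
    rw [h10] at h9
    simp only [Finset.mem_insert, Finset.mem_singleton] at h9
    omega
  rcases h8 with h8 | h8
  · -- order 16
    have hN16 : Nat.card N = 16 := by omega
    have hNeq : Y ⊔ X₀ = N := Subgroup.eq_of_le_of_card_ge hsupN (by omega)
    refine rank_SR_sub S hS N Y hNS ?_ hN16 hYN hY4 hTI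
    intro x hx y hy
    rw [← hNeq] at hx hy
    obtain ⟨a, ha, b, hb, rfl⟩ := mem_sup_of_commute hcomm hx
    obtain ⟨a', ha', b', hb', rfl⟩ := mem_sup_of_commute hcomm hy
    have c1 : Commute a a' := hXc a ha a' ha'
    have c2 : Commute b b' := hYc b hb b' hb'
    have c3 : Commute a b' := hcomm' a ha b' hb'
    have c4 : Commute b a' := hcomm b hb a' ha'
    exact (c1.mul_right c3).mul_left (c4.mul_right c2)
  · -- order 32
    have hN32 : Nat.card N = 32 := by omega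
    have hcsup16 : ∀ e ∈ N, e ∉ Y ⊔ X₀ → (Y ⊔ X₀).relIndex N = 2 := by
      intro e he heD
      have h1 := card_mul_relIndex' hsupN
      have h2 : (Y ⊔ X₀).relIndex N ≠ 1 := by
        intro h
        rw [relIndex_eq_one] at h
        exact heD (h he)
      have h3 : (Y ⊔ X₀).relIndex N ≠ 0 := index_ne_zero_of_finite
      rw [hN32] at h1
      have h4 : 2 ≤ (Y ⊔ X₀).relIndex N := by omega
      have h5 : (Y ⊔ X₀).relIndex N ≤ 2 := by
        by_contra h6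
        have : 16 * 3 ≤ Nat.card ↥(Y ⊔ X₀) * (Y ⊔ X₀).relIndex N := Nat.mul_le_mul hcsup (by omega)
        omega
      omega
    refine rank_SR2_sub S hS N Y X₀ hNS hN32 hYN hX₀N hY4 hX₀4 ?_ hdisj hYn hXn hTI ?_
    · rw [hYX]
      exact ⟨(X₀.equivMapOfInjective _ (MulAut.conj n).injective).symm⟩
    · intro e he heD
      have hr2 := hcsup16 e he heD
      constructor
      · by_contra hcon
        push Not at hcon
        -- `N/X₀` would be commutative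
        have hrX : X₀.relIndex N = 8 := by
          have := card_mul_relIndex' hX₀N
          rw [hX₀4, hN32] at this; omega
        obtain ⟨a, ha, b, hb, hab⟩ := not_comm_of_relIndex_eight hΔ hpX hkX hrX
        exact hab (quot_comm hX₀N hYN he hXn hYc hcomm' (by rwa [sup_comm]) (by rwa [sup_comm]) hcon
          a ha b hb)
      · by_contra hcon
        push Not at hcon
        obtain ⟨a, ha, b, hb, hab⟩ := not_comm_of_relIndex_eight hΔ'4 hpY hkY h8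
        exact hab (quot_comm hYN hX₀N he hYn hXc hcomm hr2 heD hcon a ha b hb)

end Cfsg.Agent.H350.Fix
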