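import Mathlib
import Cfsg.Agent.ClassTwoFusion.Ess
import Cfsg.Agent.H350.FixFour

/-!
# Fixity 4: an involution with four fixed points, the case `|X ∩ K| = 2`
-/

set_option autoImplicit false

namespace Cfsg.Agent.H350.Fix

open Subgroup Cfsg.Agent.Lib.GoldschmidtFusion

variable {G Ω : Type*} [Group G] [Finite G] [MulAction G Ω]

omit [Finite G] in
theorem mem_mst_image {Δ : Set Ω} {n g : G} :
    g ∈ mst G ((fun x => n • x) '' Δ) ↔ n⁻¹ * g * n ∈ mst G Δ := by
  have key : ∀ z : Ω, z ∈ (fun x => n • x) '' Δ ↔ n⁻¹ • z ∈ Δ := by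
    intro z
    constructor
    · rintro ⟨y, hy, rfl⟩
      simpa using hy
    · intro h
      exact ⟨n⁻¹ • z, h, smul_inv_smul n z⟩
  constructor
  · intro h x
    have h1 := h (n • x)
    rw [key, key, inv_smul_smul] at h1
    rw [mul_smul, mul_smul]
    exact h1
  · intro h x
    rw [key, key]
    have h1 := h (n⁻¹ • x)
    rw [mul_smul, mul_smul, smul_inv_smul] at h1
    exact h1

omit [Finite G] in
theorem mem_kst_image {Δ : Set Ω} {n g : G} :
    g ∈ kst G ((fun x => n • x) '' Δ) ↔ n⁻¹ * g * n ∈ kst G Δ := by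
  constructor
  · intro h x hx
    have h1 := h (n • x) ⟨x, hx, rfl⟩
    rw [mul_smul, mul_smul, h1, inv_smul_smul]
  · rintro h _ ⟨x, hx, rfl⟩
    have h1 := h x hx
    rw [mul_smul, mul_smul, inv_smul_eq_iff] at h1
    exact h1

theorem card_X0 [Finite Ω] (hfix : ∀ g : G, g ≠ 1 → (MulAction.fixedBy Ω g).ncard ≤ 4)
    {Δ Δ' : Set Ω} (hΔ : Δ.ncard = 4) (hΔ'4 : Δ'.ncard = 4) (hne : Δ' ≠ Δ) {X₀ : Subgroup G}
    (hp : IsPGroup 2 X₀) (hX₀K : X₀ ≤ kst G Δ) (hX₀M : X₀ ≤ mst G Δ') :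
    Nat.card X₀ ≤ 2 ∨ ((∀ x ∈ Δ, x ∉ Δ') ∧ Nat.card X₀ ≤ 4) := by
  by_cases h : ∀ x ∈ Δ, x ∉ Δ'
  · right
    refine ⟨h, ?_⟩
    obtain ⟨x₂, hx₂⟩ : Δ'.Nonempty := by rw [← Set.ncard_pos]; omega
    rw [← hΔ'4]
    exact card_le_of_semireg (Δ := Δ) hx₂ (fun h1 => h x₂ h1 hx₂)
      (fun y hy hy1 => kst_fixedBy hfix hΔ (hX₀K hy) hy1) (fun y hy z hz => (hX₀M hy z).2 hz)
  · left
    push Not at h
    obtain ⟨a, ha, ha'⟩ := h
    have h3 : (Δ' \ {a}).ncard = 3 := by rw [Set.ncard_sdiff_singleton_of_mem ha', hΔ'4]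
    have h1 : (⊥ : Subgroup G).relIndex X₀ ∣ Nat.factorial 3 := by
      refine relIndex_dvd_factorial h3 ?_ ?_
      · intro g hg x hx
        refine ⟨(hX₀M hg x).2 hx.1, ?_⟩
        intro h4
        apply hx.2
        have h5 : g • x = g • a := by rw [hX₀K hg a ha]; exact h4
        exact MulAction.injective g h5
      · intro g hg
        rw [mem_bot]
        constructor
        · rintro rfl x _
          exact one_smul G x
        · intro h4
          by_contra hg1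
          apply hne
          rw [← kst_fixedBy hfix hΔ (hX₀K hg) hg1]
          refine Set.eq_of_subset_of_ncard_le ?_ (by rw [hΔ'4]; exact hfix g hg1) (Set.toFinite _)
          intro x hx
          by_cases hxa : x = a
          · rw [hxa]; exact hX₀K hg a ha
          · exact h4 x ⟨hx, hxa⟩
    rw [relIndex_bot_left] at h1
    obtain ⟨k, hk⟩ := IsPGroup.iff_card.1 hp
    have h2 : Nat.Coprime (Nat.card X₀) 3 := by
      rw [hk]; exact Nat.Coprime.pow_left k (by norm_num)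
    have h4 : Nat.card X₀ ∣ 3 * 2 := h1
    exact Nat.le_of_dvd (by norm_num) (h2.dvd_of_dvd_mul_left h4)

omit [Finite G] in
theorem card_inf_centralizer (S : Subgroup G) {t : G} (htS : t ∈ S) :
    Nat.card (centralizer ({(⟨t, htS⟩ : S)} : Set S)) =
      Nat.card (S ⊓ centralizer ({t} : Set G) : Subgroup G) := by
  have e : (centralizer ({(⟨t, htS⟩ : S)} : Set S)).map S.subtype =
      S ⊓ centralizer ({t} : Set G) := by
    ext x
    constructor
    · rintro ⟨y, hy, rfl⟩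
      refine mem_inf.2 ⟨y.2, ?_⟩
      rw [SetLike.mem_coe, mem_centralizer_singleton_iff] at hy
      rw [mem_centralizer_singleton_iff]
      exact congrArg Subtype.val hy
    · intro hx
      rw [mem_inf, mem_centralizer_singleton_iff] at hx
      refine ⟨⟨x, hx.1⟩, ?_, rfl⟩
      rw [SetLike.mem_coe, mem_centralizer_singleton_iff]
      apply Subtype.ext
      exact hx.2
  rw [← e]
  exact (card_map_of_injective S.subtype_injective).symm

theorem rank_ZE_sub (S : Subgroup G) (hS : IsPGroup 2 S) {t : G} (htS : t ∈ S) (ht : orderOf t = 2)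
    (hc : Nat.card (S ⊓ centralizer ({t} : Set G) : Subgroup G) ≤ 16)
    (hna : Nat.card (S ⊓ centralizer ({t} : Set G) : Subgroup G) = 16 →
      ∃ x ∈ S ⊓ centralizer ({t} : Set G), ∃ y ∈ S ⊓ centralizer ({t} : Set G), x * y ≠ y * x) :
    Cfsg.SectionalPRankLE 2 4 S := by
  refine rank_ZE hS ⟨t, htS⟩ (by rw [← Subgroup.orderOf_coe]; exact ht) ?_ ?_
  · rw [card_inf_centralizer]; exact hc
  · intro h
    rw [card_inf_centralizer] at h
    obtain ⟨x, hx, y, hy, hxy⟩ := hna h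
    rw [mem_inf, mem_centralizer_singleton_iff] at hx hy
    refine ⟨⟨x, hx.1⟩, ?_, ⟨y, hy.1⟩, ?_, fun h => hxy (congrArg Subtype.val h)⟩
    · rw [mem_centralizer_singleton_iff]; exact Subtype.ext hx.2
    · rw [mem_centralizer_singleton_iff]; exact Subtype.ext hy.2

theorem rank_E8_sub (S : Subgroup G) (hS : IsPGroup 2 S) (X : Subgroup G) (hXS : X ≤ S)
    (hX : ∀ x ∈ X, ∀ y ∈ X, x * y = y * x) (hX2 : ∀ x ∈ X, x ^ 2 = 1) (hX8 : Nat.card X = 8)
    (hcent : centralizer (X : Set G) ⊓ S ≤ X) : Cfsg.SectionalPRankLE 2 4 S := by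
  refine Cfsg.Agent.S1232.result hS (X.subgroupOf S) ⟨?_, ?_⟩ ?_ ?_
  · refine ⟨⟨fun a b => Subtype.ext (Subtype.ext ?_)⟩⟩
    exact hX _ a.2 _ b.2
  · intro a ha
    exact Subtype.ext (hX2 a ha)
  · rw [card_subgroupOf' hXS, hX8]
  · apply le_antisymm
    · intro g hg
      rw [mem_subgroupOf]
      refine hcent (mem_inf.2 ⟨?_, g.2⟩)
      rw [mem_centralizer_iff] at hg ⊢
      intro x hx
      have h1 := hg ⟨x, hXS hx⟩ hx
      exact congrArg Subtype.val h1
    · intro g hg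
      rw [mem_centralizer_iff]
      intro x hx
      exact Subtype.ext (hX x hx g hg)

omit [Finite G] in
/-- the orbit argument -/
theorem beta_false {S X : Subgroup G} {w n c : G}
    (hfull : ¬ 2 ∣ (S ⊓ normalizer (X : Set G)).relIndex (normalizer (X : Set G)))
    (hSw : ∀ g ∈ S ⊓ normalizer (X : Set G), g * w = w * g)
    (hn : n ∈ normalizer (X : Set G)) (hnw : n * w * n⁻¹ ≠ w) (hw2 : w * w = 1)
    (hww : w * (n * w * n⁻¹) = n * w * n⁻¹ * w)
    (hc : ∀ m ∈ normalizer (X : Set G), m * c * m⁻¹ = c)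
    (horb : ∀ m ∈ normalizer (X : Set G), m * w * m⁻¹ = w ∨ m * w * m⁻¹ = n * w * n⁻¹ ∨
      m * w * m⁻¹ = w * (n * w * n⁻¹))
    (hcV : c = w ∨ c = n * w * n⁻¹ ∨ c = w * (n * w * n⁻¹)) : False := by
  obtain ⟨w', hw'⟩ : ∃ w', w' = n * w * n⁻¹ := ⟨_, rfl⟩
  rw [← hw'] at hnw hcV
  simp only [← hw'] at horb
  have hcw : c ≠ w := by
    rintro rfl
    exact hnw (hw' ▸ hc n hn)
  have hcw' : c ≠ w' := by
    intro h
    apply hcw
    have h1 := hc n⁻¹ (inv_mem hn)
    nth_rw 1 [h, hw'] at h1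
    rw [← h1]; group
  have hcc : c = w * w' := by
    rcases hcV with h | h | h
    · exact absurd h hcw
    · exact absurd h hcw'
    · exact h
  have hmne : ∀ m ∈ normalizer (X : Set G), m * w * m⁻¹ ≠ c := by
    intro m hm h
    apply hcw
    have h1 := hc m hm
    rw [← h] at h1
    have h2 : m * w * m⁻¹ = w := by
      have h3 := congrArg (fun z => m⁻¹ * z * m) h1
      have e1 : m⁻¹ * (m * (m * w * m⁻¹) * m⁻¹) * m = m * w * m⁻¹ := by group
      have e2 : m⁻¹ * (m * w * m⁻¹) * m = w := by group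
      simp only [e1, e2] at h3
      exact h3
    rw [← h, h2]
  have horb2 : ∀ m ∈ normalizer (X : Set G), m * w * m⁻¹ = w ∨ m * w * m⁻¹ = w' := by
    intro m hm
    rcases horb m hm with h | h | h
    · exact Or.inl h
    · exact Or.inr h
    · exact absurd (h.trans hcc.symm) (hmne m hm)
  have hrel : (normalizer (X : Set G) ⊓ centralizer ({w} : Set G)).relIndex
      (normalizer (X : Set G)) = 2 := by
    have hmem : ∀ m ∈ normalizer (X : Set G),
        m ∈ normalizer (X : Set G) ⊓ centralizer ({w} : Set G) ↔ m * w * m⁻¹ = w := by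
      intro m hm
      rw [mem_inf, mem_centralizer_singleton_iff, mul_inv_eq_iff_eq_mul]
      exact ⟨fun h => h.2, fun h => ⟨hm, h⟩⟩
    rw [relIndex_eq_two_iff]
    refine ⟨n, hn, ?_⟩
    intro b hb
    have h1 : b * n * w * (b * n)⁻¹ = b * w' * b⁻¹ := by rw [hw']; group
    have h2 : (b * w * b⁻¹) * (b * w' * b⁻¹) = w * w' := by
      have := hc b hb
      rw [hcc] at this
      rw [← this]; group
    rcases horb2 b hb with h | h
    · right
      refine ⟨(hmem b hb).2 h, fun h3 => ?_⟩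
      have h4 := (hmem _ (mul_mem hb hn)).1 h3
      rw [h1] at h4
      rw [h, h4] at h2
      exact hnw (mul_left_cancel h2).symm
    · left
      refine ⟨(hmem _ (mul_mem hb hn)).2 ?_, fun h3 => ?_⟩
      · rw [h1]
        rw [h] at h2
        -- `w' * z = w * w'` with `w, w'` commuting involutions
        have hw'2 : w' * w' = 1 := by
          rw [hw']
          have : n * w * n⁻¹ * (n * w * n⁻¹) = n * (w * w) * n⁻¹ := by group
          rw [this, hw2]; simp
        have h5 : b * w' * b⁻¹ = w' * (w * w') := by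
          rw [← h2, ← mul_assoc, hw'2, one_mul]
        have h6 : w * w' = w' * w := by rw [hw']; exact hww
        rw [h5, h6, ← mul_assoc, hw'2, one_mul]
      · have h4 := (hmem b hb).1 h3
        rw [h] at h4
        exact hnw h4
  apply hfull
  have hle : S ⊓ normalizer (X : Set G) ≤ normalizer (X : Set G) ⊓ centralizer ({w} : Set G) := by
    intro g hg
    rw [mem_inf, mem_centralizer_singleton_iff]
    exact ⟨(mem_inf.1 hg).2, hSw g hg⟩
  have h1 := relIndex_dvd_of_le_left (normalizer (X : Set G)) hle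
  rw [hrel] at h1
  exact h1

omit [Finite G] in
theorem comm_mem_of_relIndex_four {A X : Subgroup G} (_hAX : A ≤ X)
    (hAn : ∀ g ∈ X, ∀ a ∈ A, g * a * g⁻¹ ∈ A) (h4 : A.relIndex X = 4) :
    ∀ a ∈ X, ∀ b ∈ X, a * b * a⁻¹ * b⁻¹ ∈ A := by
  intro a ha b hb
  have hn : (A.subgroupOf X).Normal := by
    constructor
    rintro ⟨c, hc⟩ hc' ⟨g, hg⟩
    simp only [mem_subgroupOf] at hc' ⊢
    exact hAn g hg c hc'
  have : Fact (Nat.Prime 2) := ⟨Nat.prime_two⟩
  have h1 := IsPGroup.isMulCommutative_of_card_eq_prime_sq (p := 2) (G := X ⧸ A.subgroupOf X) (by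
    have : Nat.card (X ⧸ A.subgroupOf X) = 4 := h4
    rw [this]; norm_num)
  have h2 : (QuotientGroup.mk (⟨a, ha⟩ * ⟨b, hb⟩ * ⟨a, ha⟩⁻¹ * ⟨b, hb⟩⁻¹ : X) :
      X ⧸ A.subgroupOf X) = 1 := by
    simp only [QuotientGroup.mk_mul, QuotientGroup.mk_inv]
    rw [h1.is_comm.comm (QuotientGroup.mk ⟨a, ha⟩) (QuotientGroup.mk ⟨b, hb⟩)]
    group
  rw [QuotientGroup.eq_one_iff, mem_subgroupOf] at h2
  exact h2

/-- in a group `X` of order 16 with centre `Z` of order 4 all nontrivial commutators agree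
(up to inversion) -/
theorem comm_unique {X Z : Subgroup G} (hX : Nat.card X = 16) (hZX : Z ≤ X)
    (hZ : ∀ x, x ∈ Z ↔ x ∈ X ∧ ∀ y ∈ X, x * y = y * x) (hZ4 : Nat.card Z = 4)
    (hZ2 : ∀ x ∈ Z, x * x = 1) (hcZ : ∀ a ∈ X, ∀ b ∈ X, a * b * a⁻¹ * b⁻¹ ∈ Z)
    {a b a' b' : G} (ha : a ∈ X) (hb : b ∈ X) (ha' : a' ∈ X) (hb' : b' ∈ X)
    (hab : a * b ≠ b * a) (hab' : a' * b' ≠ b' * a') :
    a * b * a⁻¹ * b⁻¹ = a' * b' * a'⁻¹ * b'⁻¹ := by
  have hinv : ∀ x ∈ X, ∀ y ∈ X, x * y * x⁻¹ * y⁻¹ = y * x * y⁻¹ * x⁻¹ := by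
    intro x hx y hy
    have h1 := hZ2 _ (hcZ x hx y hy)
    have h2 : y * x * y⁻¹ * x⁻¹ = (x * y * x⁻¹ * y⁻¹)⁻¹ := by group
    rw [h2]
    exact eq_inv_of_mul_eq_one_left h1
  -- centralizers of noncentral elements have index 2
  have hC : ∀ x ∈ X, x ∉ Z → (X ⊓ centralizer ({x} : Set G)).relIndex X = 2 ∧
      Nat.card (X ⊓ centralizer ({x} : Set G) : Subgroup G) = 8 := by
    intro x hx hxZ
    have hZC : Z < X ⊓ centralizer ({x} : Set G) := by
      refine lt_of_le_of_ne ?_ ?_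
      · intro z hz
        rw [mem_inf, mem_centralizer_singleton_iff]
        exact ⟨hZX hz, ((hZ z).1 hz).2 x hx⟩
      · intro h
        apply hxZ
        rw [h, mem_inf, mem_centralizer_singleton_iff]
        exact ⟨hx, rfl⟩
    have h1 := card_lt_of_lt hZC
    have h2 := card_mul_relIndex' (inf_le_left : X ⊓ centralizer ({x} : Set G) ≤ X)
    have h3 := card_mul_relIndex' hZC.le
    rw [hZ4] at h1 h3
    rw [hX] at h2
    have h4 : (X ⊓ centralizer ({x} : Set G)).relIndex X ≠ 1 := by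
      intro h
      rw [relIndex_eq_one] at h
      apply hxZ
      rw [hZ]
      refine ⟨hx, fun y hy => ?_⟩
      have := (mem_inf.1 (h hy)).2
      rw [mem_centralizer_singleton_iff] at this
      exact this.symm
    have h5 : (X ⊓ centralizer ({x} : Set G)).relIndex X ≠ 0 := index_ne_zero_of_finite
    obtain ⟨r, hr⟩ : ∃ r, r = (X ⊓ centralizer ({x} : Set G)).relIndex X := ⟨_, rfl⟩
    obtain ⟨c, hc⟩ : ∃ c, c = Nat.card (X ⊓ centralizer ({x} : Set G) : Subgroup G) := ⟨_, rfl⟩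
    obtain ⟨q, hq⟩ : ∃ q, q = Z.relIndex (X ⊓ centralizer ({x} : Set G)) := ⟨_, rfl⟩
    rw [← hr] at h2 h4 h5 ⊢
    rw [← hc] at h1 h2 h3 ⊢
    rw [← hq] at h3
    have hq4 : q ≤ 4 := by
      have : c ≤ 16 := by
        rw [← h2]; exact Nat.le_mul_of_pos_right _ (Nat.pos_of_ne_zero h5)
      omega
    have hr16 : r ≤ 4 := by
      by_contra h6
      have : 5 * 5 ≤ c * r := Nat.mul_le_mul (by omega) (by omega)
      omega
    subst h3
    interval_cases q <;> interval_cases r <;> omega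
  -- (1)
  have h1 : ∀ x ∈ X, ∀ y ∈ X, ∀ y' ∈ X, y * x ≠ x * y → y' * x ≠ x * y' →
      y * x * y⁻¹ * x⁻¹ = y' * x * y'⁻¹ * x⁻¹ := by
    intro x hx y hy y' hy' hyx hyx'
    have hxZ : x ∉ Z := by
      intro h
      exact hyx (((hZ x).1 h).2 y hy).symm
    have hr := (hC x hx hxZ).1
    have h9 := (mul_mem_iff_of_index_two (H := (X ⊓ centralizer ({x} : Set G)).subgroupOf X) hr
      (a := ⟨y⁻¹, X.inv_mem hy⟩) (b := ⟨y', hy'⟩))
    simp only [mem_subgroupOf, inv_mem_iff] at h9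
    have h10 : y⁻¹ * y' ∈ X ⊓ centralizer ({x} : Set G) := by
      refine h9.2 ⟨fun h => ?_, fun h => ?_⟩
      · rw [mem_inf, mem_centralizer_singleton_iff] at h
        exact absurd h.2 hyx
      · rw [mem_inf, mem_centralizer_singleton_iff] at h
        exact absurd h.2 hyx'
    rw [mem_inf, mem_centralizer_singleton_iff] at h10
    have h11 : y' * x * y'⁻¹ = y * ((y⁻¹ * y') * x * (y⁻¹ * y')⁻¹) * y⁻¹ := by group
    have h12 : (y⁻¹ * y') * x * (y⁻¹ * y')⁻¹ = x := by rw [h10.2]; group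
    rw [h12] at h11
    rw [h11]
  -- (2)
  have h2 : ∀ x ∈ X, x ∉ Z → a * x ≠ x * a ∨ b * x ≠ x * b := by
    intro x hx hxZ
    by_contra hcon
    push Not at hcon
    obtain ⟨C, hCdef⟩ : ∃ C : Subgroup G, C = X ⊓ centralizer ({x} : Set G) := ⟨_, rfl⟩
    have h8 := (hC x hx hxZ).2
    rw [← hCdef] at h8
    have haC : a ∈ C := by
      rw [hCdef, mem_inf, mem_centralizer_singleton_iff]; exact ⟨ha, hcon.1⟩
    have hbC : b ∈ C := by
      rw [hCdef, mem_inf, mem_centralizer_singleton_iff]; exact ⟨hb, hcon.2⟩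
    have hlt : Z < C ⊓ centralizer (C : Set G) := by
      have hxC : x ∈ C ⊓ centralizer (C : Set G) := by
        rw [mem_inf]
        refine ⟨by rw [hCdef, mem_inf, mem_centralizer_singleton_iff]; exact ⟨hx, rfl⟩, ?_⟩
        rw [mem_centralizer_iff]
        intro y hy
        have hy' : y ∈ C := hy
        rw [hCdef, mem_inf, mem_centralizer_singleton_iff] at hy'
        exact hy'.2
      refine lt_of_le_of_ne ?_ (fun h => hxZ (h ▸ hxC))
      intro z hz
      rw [mem_inf, mem_centralizer_iff]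
      have hz' := (hZ z).1 hz
      refine ⟨by rw [hCdef, mem_inf, mem_centralizer_singleton_iff]; exact ⟨hz'.1, hz'.2 x hx⟩, ?_⟩
      intro y hy
      have hy' : y ∈ C := hy
      rw [hCdef, mem_inf] at hy'
      exact (hz'.2 y hy'.1).symm
    have h3 := card_lt_of_lt hlt
    have h4 := card_mul_relIndex' (inf_le_left : C ⊓ centralizer (C : Set G) ≤ C)
    rw [hZ4] at h3
    rw [h8] at h4
    have h5 : Nat.card (C ⊓ centralizer (C : Set G) : Subgroup G) = 8 := by
      obtain ⟨r, hr⟩ : ∃ r, r = (C ⊓ centralizer (C : Set G)).relIndex C := ⟨_, rfl⟩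
      rw [← hr] at h4
      have hr2 : r < 2 := by
        by_contra h6
        have := Nat.mul_le_mul (Nat.succ_le_of_lt h3) (not_lt.1 h6)
        omega
      interval_cases r <;> omega
    have h6 : C ⊓ centralizer (C : Set G) = C := Subgroup.eq_of_le_of_card_ge inf_le_left (by omega)
    have h7 : a ∈ centralizer (C : Set G) := by
      have : a ∈ C ⊓ centralizer (C : Set G) := h6.symm ▸ haC
      exact (mem_inf.1 this).2
    exact hab (mem_centralizer_iff.1 h7 b hbC).symm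
  have ha'Z : a' ∉ Z := fun h => hab' (((hZ a').1 h).2 b' hb')
  rcases h2 a' ha' ha'Z with h3 | h3
  · -- `a` and `a'` do not commute
    calc a * b * a⁻¹ * b⁻¹ = b * a * b⁻¹ * a⁻¹ := hinv a ha b hb
      _ = a' * a * a'⁻¹ * a⁻¹ := h1 a ha b hb a' ha' hab.symm h3.symm
      _ = a * a' * a⁻¹ * a'⁻¹ := hinv a' ha' a ha
      _ = b' * a' * b'⁻¹ * a'⁻¹ := h1 a' ha' a ha b' hb' h3 hab'.symm
      _ = a' * b' * a'⁻¹ * b'⁻¹ := hinv b' hb' a' ha'
  · calc a * b * a⁻¹ * b⁻¹ = a' * b * a'⁻¹ * b⁻¹ := h1 b hb a ha a' ha' hab h3.symm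
      _ = b * a' * b⁻¹ * a'⁻¹ := hinv a' ha' b hb
      _ = b' * a' * b'⁻¹ * a'⁻¹ := h1 a' ha' b hb b' hb' h3 hab'.symm
      _ = a' * b' * a'⁻¹ * b'⁻¹ := hinv b' hb' a' ha'

end Cfsg.Agent.H350.Fix
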