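import Mathlib
import Cfsg.Prelude.Def_Involutions
import Cfsg.Agent.H350.FixFourB

/-!
# Fixity 4: an involution with four fixed points (end)
-/

set_option autoImplicit false

namespace Cfsg.Agent.H350.Fix

open Subgroup Cfsg.Agent.Lib.GoldschmidtFusion Cfsg.Agent.ClassTwoFusion.Ess

variable {G Ω : Type*} [Group G] [Finite G] [MulAction G Ω]

theorem beta_two {S X X₀ : Subgroup G} {w n : G} (hS : IsPGroup 2 S) (hXS : X ≤ S)
    (hcent : centralizer (X : Set G) ⊓ S ≤ X)
    (hfull : ¬ 2 ∣ (S ⊓ normalizer (X : Set G)).relIndex (normalizer (X : Set G)))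
    (hn : n ∈ normalizer (X : Set G)) (hX₀X : X₀ ≤ X) (hX₀2 : Nat.card X₀ = 2)
    (hwX₀ : w ∈ X₀) (hw1 : w ≠ 1) (hSw : ∀ g ∈ S ⊓ normalizer (X : Set G), g * w = w * g)
    (hX₀n : ∀ g ∈ X, ∀ a ∈ X₀, g * a * g⁻¹ ∈ X₀)
    (hnw : n * w * n⁻¹ ≠ w) (hrel : X₀.relIndex X ∣ 8)
    (h8 : X₀.relIndex X = 8 → ∃ a ∈ X, ∃ b ∈ X, a * b * a⁻¹ * b⁻¹ ∉ X₀) :
    Cfsg.SectionalPRankLE 2 4 S := by
  have hX₀mem : ∀ x ∈ X₀, x = 1 ∨ x = w := by
    intro x hx
    by_contra hcon
    push Not at hcon
    have h1 : ({1, w, x} : Set G) ⊆ X₀ := by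
      intro y hy
      rcases hy with rfl | rfl | hy
      · exact X₀.one_mem
      · exact hwX₀
      · rw [Set.mem_singleton_iff.1 hy]; exact hx
    have h2 := Set.ncard_le_ncard h1 (Set.toFinite _)
    rw [Set.ncard_eq_three.2 ⟨1, w, x, hw1.symm, hcon.1.symm, hcon.2.symm, rfl⟩] at h2
    have h3 : (X₀ : Set G).ncard = 2 := hX₀2
    omega
  have hw2 : w * w = 1 := by
    rcases hX₀mem _ (X₀.mul_mem hwX₀ hwX₀) with h | h
    · exact h
    · exact absurd (mul_eq_right.1 h) hw1
  have hwX : w ∈ X := hX₀X hwX₀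
  have hcm : ∀ m ∈ normalizer (X : Set G), ∀ x ∈ X, m * x * m⁻¹ ∈ X := fun m hm x hx =>
    (mem_normalizer_iff.1 hm x).1 hx
  have hXw : ∀ x ∈ X, x * w = w * x := fun x hx => hSw x (mem_inf.2 ⟨hXS hx, le_normalizer hx⟩)
  obtain ⟨w', hw'⟩ : ∃ w', w' = n * w * n⁻¹ := ⟨_, rfl⟩
  have hw'X : w' ∈ X := hw' ▸ hcm n hn w hwX
  have hw'1 : w' ≠ 1 := by
    intro h
    apply hw1
    have : w = n⁻¹ * w' * n := by rw [hw']; group
    rw [this, h]; simp
  have hw'2 : w' * w' = 1 := by
    rw [hw']
    have : n * w * n⁻¹ * (n * w * n⁻¹) = n * (w * w) * n⁻¹ := by group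
    rw [this, hw2]; simp
  have hinvn : ∀ x ∈ X, n⁻¹ * x * n ∈ X := fun x hx => by
    have := hcm n⁻¹ (inv_mem hn) x hx
    simpa using this
  have hXw' : ∀ x ∈ X, x * w' = w' * x := by
    intro x hx
    have h1 := hXw _ (hinvn x hx)
    have e1 : x * w' = n * (n⁻¹ * x * n * w) * n⁻¹ := by rw [hw']; group
    have e2 : w' * x = n * (w * (n⁻¹ * x * n)) * n⁻¹ := by rw [hw']; group
    rw [e1, e2, h1]
  have hww' : w * w' = w' * w := hXw' w hwX
  have hw'w : w' ≠ w := hw' ▸ hnw
  have hw'X₀ : w' ∉ X₀ := by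
    intro h
    rcases hX₀mem _ h with h | h
    · exact hw'1 h
    · exact hw'w h
  -- the four-group
  obtain ⟨B, hBc, hB2, hw'B, hX₀B, hB4, hBdec⟩ := exists_sup_involution X₀
    (fun a ha b hb => by
      rcases hX₀mem a ha with rfl | rfl <;> rcases hX₀mem b hb with rfl | rfl <;> simp)
    (fun a ha => by
      rcases hX₀mem a ha with rfl | rfl
      · simp
      · rw [pow_two]; exact hw2) w' hw'2
    (fun a ha => by
      rcases hX₀mem a ha with rfl | rfl
      · simp
      · exact hww') hw'X₀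
  rw [hX₀2] at hB4
  have hBmem : ∀ x ∈ B, x = 1 ∨ x = w ∨ x = w' ∨ x = w * w' := by
    intro x hx
    rcases hBdec x hx with h | h
    · rcases hX₀mem x h with h | h
      · exact Or.inl h
      · exact Or.inr (Or.inl h)
    · have e : x = x * w' * w' := by rw [mul_assoc, hw'2, mul_one]
      rcases hX₀mem _ h with h | h
      · right; right; left
        rw [e, h, one_mul]
      · right; right; right
        rw [e, h]
  have hBX : B ≤ X := by
    intro x hx
    rcases hBmem x hx with rfl | rfl | rfl | rfl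
    · exact X.one_mem
    · exact hwX
    · exact hw'X
    · exact X.mul_mem hwX hw'X
  have hBcent : ∀ x ∈ B, ∀ y ∈ X, x * y = y * x := by
    intro x hx y hy
    have c1 : Commute w y := (hXw y hy).symm
    have c2 : Commute w' y := (hXw' y hy).symm
    rcases hBmem x hx with rfl | rfl | rfl | rfl
    · simp
    · exact c1
    · exact c2
    · exact c1.mul_left c2
  have hBn : ∀ g ∈ X, ∀ a ∈ B, g * a * g⁻¹ ∈ B := by
    intro g hg a ha
    have : g * a * g⁻¹ = a := by rw [← hBcent a ha g hg]; group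
    rw [this]; exact ha
  have hmw1 : ∀ m : G, m * w * m⁻¹ ≠ 1 := by
    intro m h
    apply hw1
    have : w = m⁻¹ * (m * w * m⁻¹) * m := by group
    rw [this, h]; simp
  have hmw2 : ∀ m : G, (m * w * m⁻¹) * (m * w * m⁻¹) = 1 := by
    intro m
    have : m * w * m⁻¹ * (m * w * m⁻¹) = m * (w * w) * m⁻¹ := by group
    rw [this, hw2]; simp
  have hcX := card_mul_relIndex' hX₀X
  rw [hX₀2] at hcX
  have hcB := card_mul_relIndex' hBX
  have hrel' : X₀.relIndex X ∈ Nat.divisors 8 := Nat.mem_divisors.2 ⟨hrel, by norm_num⟩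
  have h10 : Nat.divisors 8 = {1, 2, 4, 8} := by decide
  rw [h10] at hrel'
  simp only [Finset.mem_insert, Finset.mem_singleton] at hrel'
  rcases hrel' with hr | hr | hr | hr
  · exfalso
    have h1 := card_le_of_le' hBX
    omega
  · -- `|X| = 4`
    have hX4 : Nat.card X = 4 := by omega
    have hBeq : B = X := Subgroup.eq_of_le_of_card_ge hBX (by omega)
    have hCX : S ⊓ centralizer ({w'} : Set G) = X := by
      by_contra hne
      have hle : X ≤ S ⊓ centralizer ({w'} : Set G) := by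
        intro x hx
        rw [mem_inf, mem_centralizer_singleton_iff]
        exact ⟨hXS hx, hXw' x hx⟩
      have hlt : X < S ⊓ centralizer ({w'} : Set G) := lt_of_le_of_ne hle (Ne.symm hne)
      have h1 := lt_inf_normalizer (p := 2) (hS.to_le inf_le_left) hlt
      obtain ⟨z, hz, hzX⟩ := SetLike.exists_of_lt h1
      rw [mem_inf, mem_inf, mem_centralizer_singleton_iff] at hz
      apply hzX
      apply hcent
      rw [mem_inf, mem_centralizer_iff]
      refine ⟨?_, hz.1.1⟩
      intro x hx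
      have c1 : Commute w z := (hSw z (mem_inf.2 ⟨hz.1.1, hz.2⟩)).symm
      have c2 : Commute w' z := hz.1.2.symm
      have hx' : x ∈ B := hBeq ▸ hx
      rcases hBmem x hx' with rfl | rfl | rfl | rfl
      · simp
      · exact c1
      · exact c2
      · exact c1.mul_left c2
    refine rank_ZE_sub S hS (hXS hw'X) ?_ ?_ ?_
    · exact orderOf_eq_prime (by rw [pow_two]; exact hw'2) hw'1
    · rw [hCX, hX4]; norm_num
    · rw [hCX, hX4]; intro h; omega
  · -- `|X| = 8`
    have hX8 : Nat.card X = 8 := by omega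
    have hXc : ∀ x ∈ X, ∀ y ∈ X, x * y = y * x := by
      have h1 := comm_mem_of_relIndex_four hX₀X hX₀n hr
      intro x hx y hy
      have h2 : x * y * x⁻¹ * y⁻¹ = 1 := by
        rcases hX₀mem _ (h1 x hx y hy) with h | h
        · exact h
        · exfalso
          -- conjugate by `n⁻¹`
          have h3 := h1 _ (hinvn x hx) _ (hinvn y hy)
          have e : n⁻¹ * x * n * (n⁻¹ * y * n) * (n⁻¹ * x * n)⁻¹ * (n⁻¹ * y * n)⁻¹ =
              n⁻¹ * (x * y * x⁻¹ * y⁻¹) * n := by group
          rw [e, h] at h3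
          rcases hX₀mem _ h3 with h4 | h4
          · apply hw1
            have : w = n * (n⁻¹ * w * n) * n⁻¹ := by group
            rw [this, h4]; simp
          · apply hnw
            have : n * w * n⁻¹ = n * (n⁻¹ * w * n) * n⁻¹ := by rw [h4]
            rw [this]; group
      have h3 := mul_inv_eq_one.1 h2
      rwa [mul_inv_eq_iff_eq_mul] at h3
    by_cases hsq : ∀ x ∈ X, x ^ 2 = 1
    · exact rank_E8_sub S hS X hXS hXc hsq hX8 hcent
    · exfalso
      push Not at hsq
      obtain ⟨u, hu, hu2⟩ := hsq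
      rw [pow_two] at hu2
      have hrB : B.relIndex X = 2 := by
        rw [hB4, hX8] at hcB; omega
      have huB : u ∉ B := fun h => hu2 (by rw [← pow_two]; exact hB2 u h)
      have hidx : ∀ x ∈ X, x ∉ B → x * u⁻¹ ∈ B := by
        intro x hx hxB
        have h9 := (mul_mem_iff_of_index_two (H := B.subgroupOf X) hrB
          (a := ⟨x, hx⟩) (b := ⟨u⁻¹, X.inv_mem hu⟩))
        simp only [mem_subgroupOf, inv_mem_iff] at h9
        exact h9.2 ⟨fun h => absurd h hxB, fun h => absurd h huB⟩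
      have hsqX : ∀ x ∈ X, x ∉ B → x * x = u * u := by
        intro x hx hxB
        obtain ⟨v, hv⟩ : ∃ v, v = x * u⁻¹ := ⟨_, rfl⟩
        have hvB : v ∈ B := hv ▸ hidx x hx hxB
        have hxv : x = v * u := by rw [hv]; group
        have h1 : v * v = 1 := by rw [← pow_two]; exact hB2 v hvB
        have h2 := hBcent v hvB u hu
        calc x * x = v * (u * v) * u := by rw [hxv]; group
          _ = v * (v * u) * u := by rw [h2]
          _ = (v * v) * (u * u) := by group
          _ = u * u := by rw [h1, one_mul]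
      have huuB : u * u ∈ B := by
        have h9 := (mul_mem_iff_of_index_two (H := B.subgroupOf X) hrB
          (a := ⟨u, hu⟩) (b := ⟨u, hu⟩))
        simp only [mem_subgroupOf] at h9
        exact h9.2 trivial
      refine beta_false (c := u * u) hfull hSw hn hnw hw2 (by rw [← hw']; exact hww') ?_ ?_ ?_
      · intro m hm
        have h1 : m * (u * u) * m⁻¹ = (m * u * m⁻¹) * (m * u * m⁻¹) := by group
        rw [h1]
        apply hsqX _ (hcm m hm u hu)
        intro h
        have h2 := hB2 _ h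
        rw [pow_two, ← h1] at h2
        apply hu2
        have h3 : u * u = m⁻¹ * (m * (u * u) * m⁻¹) * m := by group
        rw [h3, h2]; simp
      · intro m hm
        have h1 : m * w * m⁻¹ ∈ B := by
          by_contra h
          have h2 := hsqX _ (hcm m hm w hwX) h
          rw [hmw2 m] at h2
          exact hu2 h2.symm
        rw [← hw']
        rcases hBmem _ h1 with h | h | h | h
        · exact absurd h (hmw1 m)
        · exact Or.inl h
        · exact Or.inr (Or.inl h)
        · exact Or.inr (Or.inr h)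
      · rw [← hw']
        rcases hBmem _ huuB with h | h | h | h
        · exact absurd h hu2
        · exact Or.inl h
        · exact Or.inr (Or.inl h)
        · exact Or.inr (Or.inr h)
  · -- `|X| = 16`
    exfalso
    have hX16 : Nat.card X = 16 := by omega
    obtain ⟨a, ha, b, hb, hab⟩ := h8 hr
    have hab' : a * b ≠ b * a := by
      intro h
      apply hab
      have : a * b * a⁻¹ * b⁻¹ = 1 := by rw [h]; group
      rw [this]; exact X₀.one_mem
    obtain ⟨Z, hZdef⟩ : ∃ Z : Subgroup G, Z = X ⊓ centralizer (X : Set G) := ⟨_, rfl⟩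
    have hZ : ∀ x, x ∈ Z ↔ x ∈ X ∧ ∀ y ∈ X, x * y = y * x := by
      intro x
      rw [hZdef, mem_inf, mem_centralizer_iff]
      exact ⟨fun h => ⟨h.1, fun y hy => (h.2 y hy).symm⟩, fun h => ⟨h.1, fun y hy => (h.2 y hy).symm⟩⟩
    have hZX : Z ≤ X := fun x hx => ((hZ x).1 hx).1
    have hBZ : B ≤ Z := fun x hx => (hZ x).2 ⟨hBX hx, hBcent x hx⟩
    have haZ : a ∉ Z := fun h => hab' (((hZ a).1 h).2 b hb)
    have hbZ : b ∉ Z := fun h => hab' (((hZ b).1 h).2 a ha).symm
    have hcZ := card_mul_relIndex' hZX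
    have hcBZ := card_mul_relIndex' hBZ
    rw [hX16] at hcZ
    have hr1 : Z.relIndex X ≠ 1 := by
      intro h
      rw [relIndex_eq_one] at h
      exact haZ (h ha)
    have hr2 : Z.relIndex X ≠ 2 := by
      intro h
      have h9 := (mul_mem_iff_of_index_two (H := Z.subgroupOf X) h
        (a := ⟨a, ha⟩) (b := ⟨b, hb⟩))
      simp only [mem_subgroupOf] at h9
      have h11 : a * b ∈ Z := h9.2 ⟨fun h => absurd h haZ, fun h => absurd h hbZ⟩
      have h12 := ((hZ _).1 h11).2 a ha
      apply hab'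
      have : a * (b * a) = a * (a * b) := by rw [← mul_assoc]; exact h12
      exact (mul_left_cancel this).symm
    have hr0 : Z.relIndex X ≠ 0 := index_ne_zero_of_finite
    have hZeq : Z = B := by
      symm
      apply Subgroup.eq_of_le_of_card_ge hBZ
      obtain ⟨r, hrr⟩ : ∃ r, r = Z.relIndex X := ⟨_, rfl⟩
      obtain ⟨c, hc⟩ : ∃ c, c = Nat.card Z := ⟨_, rfl⟩
      obtain ⟨q, hq⟩ : ∃ q, q = B.relIndex Z := ⟨_, rfl⟩
      rw [← hrr] at hcZ hr0 hr1 hr2
      rw [← hc] at hcZ hcBZ ⊢
      rw [← hq, hB4] at hcBZ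
      rw [hB4]
      subst hcBZ
      have h3 : 3 ≤ r := by omega
      have h4 : q < 2 := by
        by_contra h5
        have := Nat.mul_le_mul (not_lt.1 h5) h3
        have h6 : 2 * 2 * q * r = 4 * (q * r) := by ring
        omega
      omega
    have hZ4 : Nat.card Z = 4 := by rw [hZeq, hB4]
    have hrZ : Z.relIndex X = 4 := by rw [hZ4] at hcZ; omega
    have hZ2 : ∀ x ∈ Z, x * x = 1 := by
      intro x hx
      rw [hZeq] at hx
      rw [← pow_two]; exact hB2 x hx
    have hcommZ := comm_mem_of_relIndex_four hZX (by rw [hZeq]; exact hBn) hrZ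
    have hc1 : a * b * a⁻¹ * b⁻¹ ≠ 1 := by
      intro h
      apply hab
      rw [h]; exact X₀.one_mem
    have hnZ : ∀ m ∈ normalizer (X : Set G), ∀ x ∈ Z, m * x * m⁻¹ ∈ Z := by
      intro m hm x hx
      rw [hZ] at hx ⊢
      refine ⟨hcm m hm x hx.1, fun y hy => ?_⟩
      have h1 : m⁻¹ * y * m ∈ X := by
        have := hcm m⁻¹ (inv_mem hm) y hy
        simpa using this
      have h2 := hx.2 _ h1
      have e1 : m * x * m⁻¹ * y = m * (x * (m⁻¹ * y * m)) * m⁻¹ := by group
      rw [e1, h2]; group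
    refine beta_false (c := a * b * a⁻¹ * b⁻¹) hfull hSw hn hnw hw2 (by rw [← hw']; exact hww') ?_ ?_ ?_
    · intro m hm
      have h1 := comm_unique hX16 hZX hZ hZ4 hZ2 hcommZ ha hb (hcm m hm a ha) (hcm m hm b hb) hab' (by
        intro h
        apply hab'
        exact conj_comm_aux m a b h)
      have e : m * (a * b * a⁻¹ * b⁻¹) * m⁻¹ =
          m * a * m⁻¹ * (m * b * m⁻¹) * (m * a * m⁻¹)⁻¹ * (m * b * m⁻¹)⁻¹ := by group
      rw [e, ← h1]
    · intro m hm
      have h1 : m * w * m⁻¹ ∈ B := by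
        rw [← hZeq]
        exact hnZ m hm w (hBZ (hX₀B hwX₀))
      rw [← hw']
      rcases hBmem _ h1 with h | h | h | h
      · exact absurd h (hmw1 m)
      · exact Or.inl h
      · exact Or.inr (Or.inl h)
      · exact Or.inr (Or.inr h)
    · rw [← hw']
      have h1 : a * b * a⁻¹ * b⁻¹ ∈ B := hZeq ▸ hcommZ a ha b hb
      rcases hBmem _ h1 with h | h | h | h
      · exact absurd h hc1
      · exact Or.inl h
      · exact Or.inr (Or.inl h)
      · exact Or.inr (Or.inr h)

end Cfsg.Agent.H350.Fix
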