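import Mathlib
import Cfsg.Agent.H350.FixFourC

/-!
# Fixity 4: an involution with four fixed points (assembly)
-/

set_option autoImplicit false

namespace Cfsg.Agent.H350.Fix

open Subgroup Cfsg.Agent.Lib.GoldschmidtFusion Cfsg.Agent.ClassTwoFusion.Ess

variable {G Ω : Type*} [Group G] [Finite G] [MulAction G Ω]

theorem two_four [Finite Ω] [FaithfulSMul G Ω] (htrans : MulAction.IsPretransitive G Ω)
    (hfix : ∀ g : G, g ≠ 1 → (MulAction.fixedBy Ω g).ncard ≤ 4)
    (hse : ∀ (S : Sylow 2 G) (T : Subgroup G), T ≠ ⊥ → Cfsg.IsStronglyClosed T (S : Subgroup G) →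
      (⨆ t : {t : G // t ∈ T ∧ orderOf t = 2}, centralizer ({(t : G)} : Set G)) ≠ ⊤ →
      ∃ H : Subgroup G, Cfsg.IsStronglyEmbedded H)
    (S : Sylow 2 G) {t : G} (htS : t ∈ (S : Subgroup G)) (ht : orderOf t = 2)
    (htf : (MulAction.fixedBy Ω t).ncard = 4) :
    (∃ H : Subgroup G, Cfsg.IsStronglyEmbedded H) ∨
      Cfsg.SectionalPRankLE 2 4 (S : Subgroup G) := by
  have hSp : IsPGroup 2 (S : Subgroup G) := S.isPGroup'
  have ht1 : t ≠ 1 := by rintro rfl; rw [orderOf_one] at ht; omega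
  obtain ⟨Δ, hΔdef⟩ : ∃ Δ : Set Ω, Δ = MulAction.fixedBy Ω t := ⟨_, rfl⟩
  have hΔ : Δ.ncard = 4 := hΔdef ▸ htf
  have htK : t ∈ kst G Δ := by
    intro x hx
    rw [hΔdef] at hx
    exact hx
  obtain ⟨R, hR⟩ : ∃ R : Subgroup G, R = (S : Subgroup G) ⊓ kst G Δ := ⟨_, rfl⟩
  have htR : t ∈ R := by rw [hR]; exact mem_inf.2 ⟨htS, htK⟩
  have hR1 : R ≠ ⊥ := by
    intro h
    rw [h, mem_bot] at htR
    exact ht1 htR
  have hRS : R ≤ (S : Subgroup G) := hR ▸ inf_le_left
  have hRK : R ≤ kst G Δ := hR ▸ inf_le_right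
  have hfixK : ∀ y ∈ kst G Δ, y ≠ 1 → MulAction.fixedBy Ω y = Δ := fun y hy hy1 =>
    kst_fixedBy hfix hΔ hy hy1
  have hTI : ∀ g w : G, w ∈ kst G Δ → w ≠ 1 → g * w * g⁻¹ ∈ kst G Δ → g ∈ mst G Δ := by
    intro g w hw hw1 hgw
    refine mem_mst_of_fixedBy (hfixK w hw hw1) (hfixK _ hgw ?_)
    intro h
    apply hw1
    have : w = g⁻¹ * (g * w * g⁻¹) * g := by group
    rw [this, h]; simp
  have hΔ' : ∀ n : G, ((fun x : Ω => n • x) '' Δ).ncard = 4 := fun n => by
    rw [Set.ncard_image_of_injective _ (MulAction.injective n), hΔ]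
  have hΔne : ∀ n : G, n ∉ mst G Δ → (fun x : Ω => n • x) '' Δ ≠ Δ := by
    intro n hn h
    apply hn
    intro x
    constructor
    · intro h1
      rw [← h] at h1
      obtain ⟨y, hy, hyx⟩ := h1
      rwa [MulAction.injective n hyx] at hy
    · intro h1
      rw [← h]; exact ⟨x, h1, rfl⟩
  by_cases hSM : (S : Subgroup G) ≤ mst G Δ
  · -- Case II
    by_cases hall : ∀ X : Subgroup G, (X = (S : Subgroup G) ∨ IsEss 2 (S : Subgroup G) X) →
        normalizer (X : Set G) ≤ mst G Δ
    · left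
      have hRn : ∀ g ∈ mst G Δ, ∀ a ∈ R, g * a * g⁻¹ ∈ (S : Subgroup G) → g * a * g⁻¹ ∈ R := by
        intro g hg a ha hga
        rw [hR, mem_inf]
        exact ⟨hga, mst_kst_normal hg (hRK ha)⟩
      refine hse S R hR1 ?_ ?_
      · refine isStronglyClosed S R hRS ?_ ?_
        · intro g hg a ha
          exact hRn g (hall _ (Or.inl rfl) hg) a ha ((mem_normalizer_iff.1 hg a).1 (hRS ha))
        · intro X hX g hg a ha haX
          exact hRn g (hall _ (Or.inr hX) hg) a ha (hX.lt.le ((mem_normalizer_iff.1 hg a).1 haX))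
      · have hle : (⨆ t : {t : G // t ∈ R ∧ orderOf t = 2}, centralizer ({(t : G)} : Set G)) ≤
            mst G Δ := by
          refine iSup_le ?_
          rintro ⟨s, hs, hs2⟩ g hg
          rw [mem_centralizer_singleton_iff] at hg
          have hs1 : s ≠ 1 := by rintro rfl; rw [orderOf_one] at hs2; omega
          refine hTI g s (hRK hs) hs1 ?_
          have : g * s * g⁻¹ = s := by rw [hg]; group
          rw [this]; exact hRK hs
        intro htop
        rw [htop, top_le_iff] at hle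
        obtain ⟨y, hy⟩ : Δ.Nonempty := by rw [← Set.ncard_pos]; omega
        apply ht1
        apply FaithfulSMul.eq_of_smul_eq_smul (α := Ω)
        intro z
        rw [one_smul]
        obtain ⟨g, rfl⟩ := htrans.exists_smul_eq y z
        have h1 : g ∈ mst G Δ := hle ▸ mem_top g
        exact htK _ ((h1 y).2 hy)
    · right
      push Not at hall
      obtain ⟨X, hX, hXM⟩ := hall
      obtain ⟨n, hn, hnM⟩ := SetLike.not_le_iff_exists.1 hXM
      have hXS : X ≤ (S : Subgroup G) := by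
        rcases hX with rfl | hX
        · exact le_refl _
        · exact hX.lt.le
      have hcent : centralizer (X : Set G) ⊓ (S : Subgroup G) ≤ X := by
        rcases hX with rfl | hX
        · exact inf_le_right
        · exact hX.centric
      have hfull : ¬ 2 ∣ ((S : Subgroup G) ⊓ normalizer (X : Set G)).relIndex
          (normalizer (X : Set G)) := by
        rcases hX with rfl | hX
        · rw [inf_eq_left.2 le_normalizer]
          intro h
          exact S.not_dvd_index (h.trans (relIndex_dvd_index_of_le le_normalizer))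
        · exact hX.fully
      have hXM' : X ≤ mst G Δ := hXS.trans hSM
      have hcm : ∀ m ∈ normalizer (X : Set G), ∀ x ∈ X, m * x * m⁻¹ ∈ X := fun m hm x hx =>
        (mem_normalizer_iff.1 hm x).1 hx
      have hinvn : ∀ x ∈ X, n⁻¹ * x * n ∈ X := fun x hx => by
        have := hcm n⁻¹ (inv_mem hn) x hx
        simpa using this
      obtain ⟨X₀, hX₀⟩ : ∃ X₀ : Subgroup G, X₀ = X ⊓ kst G Δ := ⟨_, rfl⟩
      have hX₀X : X₀ ≤ X := hX₀ ▸ inf_le_left
      have hX₀K : X₀ ≤ kst G Δ := hX₀ ▸ inf_le_right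
      have hRSn : ∀ g ∈ (S : Subgroup G), ∀ x ∈ R, g * x * g⁻¹ ∈ R := by
        intro g hg x hx
        rw [hR, mem_inf] at hx ⊢
        exact ⟨mul_mem (mul_mem hg hx.1) (inv_mem hg), mst_kst_normal (hSM hg) hx.2⟩
      obtain ⟨w₀, hw₀R, hw₀1, -, hw₀c⟩ := exists_central_three (p := 2) hSp hRS hR1 hRSn
      have hw₀X : w₀ ∈ X := by
        refine hcent (mem_inf.2 ⟨?_, hRS hw₀R⟩)
        rw [mem_centralizer_iff]
        intro y hy
        exact hw₀c y (hXS hy)
      have hw₀X₀ : w₀ ∈ X₀ := by rw [hX₀, mem_inf]; exact ⟨hw₀X, hRK hw₀R⟩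
      have hX₀1 : X₀ ≠ ⊥ := by
        intro h
        rw [h, mem_bot] at hw₀X₀
        exact hw₀1 hw₀X₀
      have hX₀p : IsPGroup 2 X₀ := hSp.to_le (hX₀X.trans hXS)
      obtain ⟨Δ', hΔ'def⟩ : ∃ Δ' : Set Ω, Δ' = (fun x : Ω => n • x) '' Δ := ⟨_, rfl⟩
      have hΔ'4 : Δ'.ncard = 4 := hΔ'def ▸ hΔ' n
      have hXMn : X ≤ mst G Δ' := by
        intro x hx
        rw [hΔ'def, mem_mst_image]
        exact hXM' (hinvn x hx)
      have hX₀n : ∀ g ∈ X, ∀ a ∈ X₀, g * a * g⁻¹ ∈ X₀ := by
        intro g hg a ha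
        rw [hX₀, mem_inf]
        exact ⟨mul_mem (mul_mem hg (hX₀X ha)) (inv_mem hg), mst_kst_normal (hXM' hg) (hX₀K ha)⟩
      have hkX : ∀ g ∈ X, g ∈ X₀ ↔ ∀ x ∈ Δ, g • x = x := by
        intro g hg
        rw [hX₀, mem_inf]
        exact ⟨fun h => h.2, fun h => ⟨hg, h⟩⟩
      have hpX : ∀ g ∈ X, ∀ x ∈ Δ, g • x ∈ Δ := fun g hg x hx => (hXM' hg x).2 hx
      have htwo : Nat.card X₀ ≤ 2 → Cfsg.SectionalPRankLE 2 4 (S : Subgroup G) := by
        intro h2
        have hX₀2 : Nat.card X₀ = 2 := by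
          have h3 : 1 < Nat.card X₀ := by
            rw [one_lt_card_iff_ne_bot]; exact hX₀1
          omega
        have hX₀mem : ∀ x ∈ X₀, x ≠ 1 → x = w₀ := by
          intro x hx hx1
          by_contra hcon
          have h1 : ({1, w₀, x} : Set G) ⊆ X₀ := by
            intro y hy
            rcases hy with rfl | rfl | hy
            · exact X₀.one_mem
            · exact hw₀X₀
            · rw [Set.mem_singleton_iff.1 hy]; exact hx
          have h2 := Set.ncard_le_ncard h1 (Set.toFinite _)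
          rw [Set.ncard_eq_three.2 ⟨1, w₀, x, hw₀1.symm, Ne.symm hx1, Ne.symm hcon, rfl⟩] at h2
          have h3 : (X₀ : Set G).ncard = 2 := hX₀2
          omega
        refine beta_two (X₀ := X₀) (w := w₀) (n := n) hSp hXS hcent hfull hn hX₀X hX₀2 hw₀X₀ hw₀1 ?_ hX₀n ?_ ?_ ?_
        · intro g hg
          rw [mem_inf] at hg
          exact hw₀c g hg.1
        · intro h
          apply hnM
          exact hTI n w₀ (hRK hw₀R) hw₀1 (by rw [h]; exact hRK hw₀R)
        · exact relIndex_dvd_eight (hSp.to_le hXS) hX₀X hΔ hpX hkX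
        · intro h8
          exact not_comm_of_relIndex_eight hΔ hpX hkX h8
      rcases card_X0 hfix hΔ hΔ'4 (hΔ'def ▸ hΔne n hnM) hX₀p hX₀K (hX₀X.trans hXMn) with h | ⟨hdis, h⟩
      · exact htwo h
      · by_cases h4 : Nat.card X₀ = 4
        · -- `α`
          obtain ⟨x₁, hx₁⟩ : Δ.Nonempty := by rw [← Set.ncard_pos]; omega
          refine alpha hfix hSp hΔ hΔ'4 hdis (hX₀X.trans hXS) hX₀K (hX₀X.trans hXMn) h4
            (Y := (S : Subgroup G) ⊓ kst G Δ') rfl (n := n) ?_ (inf_le_left.trans hSM)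
          symm
          apply Subgroup.eq_of_le_of_card_ge
          · rintro _ ⟨x, hx, rfl⟩
            refine mem_inf.2 ⟨hXS (hcm n hn x (hX₀X hx)), ?_⟩
            rw [hΔ'def, mem_kst_image]
            have e : n⁻¹ * (MulAut.conj n).toMonoidHom x * n = x := by
              show n⁻¹ * (n * x * n⁻¹) * n = x
              group
            rw [e]; exact hX₀K hx
          · rw [card_map_conj, h4, ← hΔ]
            refine card_le_of_semireg (Δ := Δ') hx₁ (hdis x₁ hx₁) ?_ ?_
            · intro y hy hy1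
              exact kst_fixedBy hfix hΔ'4 (mem_inf.1 hy).2 hy1
            · intro y hy z hz
              exact (hSM (mem_inf.1 hy).1 z).2 hz
        · apply htwo
          obtain ⟨k, hk⟩ := IsPGroup.iff_card.1 hX₀p
          have h5 : k < 2 := by
            by_contra h6
            have : 2 ^ 2 ≤ 2 ^ k := Nat.pow_le_pow_right (by norm_num) (not_lt.1 h6)
            omega
          have : 2 ^ k ≤ 2 ^ 1 := Nat.pow_le_pow_right (by norm_num) (by omega)
          omega
  · -- Case I
    right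
    obtain ⟨E, hE⟩ : ∃ E : Subgroup G, E = (S : Subgroup G) ⊓ mst G Δ := ⟨_, rfl⟩
    have hES : E ≤ (S : Subgroup G) := hE ▸ inf_le_left
    have hEM : E ≤ mst G Δ := hE ▸ inf_le_right
    have hElt : E < (S : Subgroup G) := by
      refine lt_of_le_of_ne hES ?_
      intro h
      exact hSM (h ▸ hEM)
    obtain ⟨n, hn, hnE⟩ := SetLike.exists_of_lt (lt_inf_normalizer hSp hElt)
    rw [mem_inf] at hn
    have hnM : n ∉ mst G Δ := fun h => hnE (by rw [hE]; exact mem_inf.2 ⟨hn.1, h⟩)
    have hRE : R ≤ E := by rw [hR, hE]; exact inf_le_inf_left _ (kst_le_mst Δ)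
    have hinvn : ∀ x ∈ E, n⁻¹ * x * n ∈ E := fun x hx => by
      have := (mem_normalizer_iff.1 (inv_mem hn.2) x).1 hx
      simpa using this
    obtain ⟨Δ', hΔ'def⟩ : ∃ Δ' : Set Ω, Δ' = (fun x : Ω => n • x) '' Δ := ⟨_, rfl⟩
    have hΔ'4 : Δ'.ncard = 4 := hΔ'def ▸ hΔ' n
    have hEMn : E ≤ mst G Δ' := by
      intro x hx
      rw [hΔ'def, mem_mst_image]
      exact hEM (hinvn x hx)
    have hRp : IsPGroup 2 R := hSp.to_le hRS
    have hkX : ∀ g ∈ E, g ∈ R ↔ ∀ x ∈ Δ, g • x = x := by
      intro g hg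
      rw [hR, mem_inf]
      exact ⟨fun h => h.2, fun h => ⟨hES hg, h⟩⟩
    have hpX : ∀ g ∈ E, ∀ x ∈ Δ, g • x ∈ Δ := fun g hg x hx => (hEM hg x).2 hx
    have hrel := relIndex_dvd_eight (hSp.to_le hES) hRE hΔ hpX hkX
    have htwo : Nat.card R ≤ 2 → Cfsg.SectionalPRankLE 2 4 (S : Subgroup G) := by
      intro h2
      have hcE : (S : Subgroup G) ⊓ centralizer ({t} : Set G) ≤ E := by
        intro g hg
        rw [mem_inf, mem_centralizer_singleton_iff] at hg
        rw [hE, mem_inf]
        refine ⟨hg.1, hTI g t htK ht1 ?_⟩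
        have : g * t * g⁻¹ = t := by rw [hg.2]; group
        rw [this]; exact htK
      have hcard := card_mul_relIndex' hRE
      have hrel8 : R.relIndex E ≤ 8 := Nat.le_of_dvd (by norm_num) hrel
      have hE16 : Nat.card E ≤ 16 := by
        rw [← hcard]
        exact Nat.mul_le_mul h2 hrel8
      have hc16 := card_le_of_le' hcE
      refine rank_ZE_sub _ hSp htS ht (hc16.trans hE16) ?_
      intro h16
      have hEq : (S : Subgroup G) ⊓ centralizer ({t} : Set G) = E :=
        Subgroup.eq_of_le_of_card_ge hcE (by omega)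
      have hr8 : R.relIndex E = 8 := by
        have h5 : Nat.card E = 16 := by rw [← hEq]; exact h16
        by_contra h6
        have h7 : R.relIndex E ≤ 7 := by omega
        have := Nat.mul_le_mul h2 h7
        omega
      obtain ⟨a, ha, b, hb, hab⟩ := not_comm_of_relIndex_eight hΔ hpX hkX hr8
      refine ⟨a, hEq.symm ▸ ha, b, hEq.symm ▸ hb, fun h => hab ?_⟩
      have : a * b * a⁻¹ * b⁻¹ = 1 := by rw [h]; group
      rw [this]; exact R.one_mem
    rcases card_X0 hfix hΔ hΔ'4 (hΔ'def ▸ hΔne n hnM) hRp hRK (hRE.trans hEMn) with h | ⟨hdis, h⟩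
    · exact htwo h
    · by_cases h4 : Nat.card R = 4
      · refine alpha hfix hSp hΔ hΔ'4 hdis hRS hRK (hRE.trans hEMn) h4
            (Y := (S : Subgroup G) ⊓ kst G Δ') rfl (n := n) ?_ ?_
        · ext y
          rw [mem_map_conj, mem_inf, hΔ'def, mem_kst_image, hR, mem_inf]
          have h5 : n⁻¹ * y * n ∈ (S : Subgroup G) ↔ y ∈ (S : Subgroup G) := by
            constructor
            · intro h6
              have := mul_mem (mul_mem hn.1 h6) (inv_mem hn.1)
              have e : n * (n⁻¹ * y * n) * n⁻¹ = y := by group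
              rwa [e] at this
            · intro h6
              exact mul_mem (mul_mem (inv_mem hn.1) h6) hn.1
          rw [h5]
        · intro g hg
          rw [mem_inf, hΔ'def, mem_mst_image] at hg
          have h5 : n⁻¹ * g * n ∈ E := by
            rw [hE, mem_inf]
            exact ⟨mul_mem (mul_mem (inv_mem hn.1) hg.1) hn.1, hg.2⟩
          have h6 := (mem_normalizer_iff.1 hn.2 _).1 h5
          have e : n * (n⁻¹ * g * n) * n⁻¹ = g := by group
          rw [e] at h6
          exact hEM h6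
      · apply htwo
        obtain ⟨k, hk⟩ := IsPGroup.iff_card.1 hRp
        have h5 : k < 2 := by
          by_contra h6
          have : 2 ^ 2 ≤ 2 ^ k := Nat.pow_le_pow_right (by norm_num) (not_lt.1 h6)
          omega
        have : 2 ^ k ≤ 2 ^ 1 := Nat.pow_le_pow_right (by norm_num) (by omega)
        omega

end Cfsg.Agent.H350.Fix
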