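import Mathlib
import Cfsg.Agent.H350.FixThreeC

/-!
# Fixity 4, involutions without fixed points: the prime 3 (end)
-/

set_option autoImplicit false

namespace Cfsg.Agent.H350.Fix

open Subgroup Cfsg.Agent.Lib.GoldschmidtFusion

variable {G Ω : Type*} [Group G] [Finite G] [MulAction G Ω]

theorem three_case_two [Finite Ω] [FaithfulSMul G Ω]
    (htrans : MulAction.IsPretransitive G Ω)
    (hfix : ∀ g : G, g ≠ 1 → (MulAction.fixedBy Ω g).ncard ≤ 4)
    (P : Sylow 3 G) (a : Ω) (h3 : 3 ∣ Nat.card (MulAction.stabilizer G a))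
    (hmod : Nat.card Ω % 3 = 2) : Concl3 P := by
  left
  refine ⟨mst G (fx Ω (P : Subgroup G)), ?_⟩
  have h1 := card_fx_modEq (Ω := Ω) P.isPGroup'
  have h2 : Nat.card Ω % 3 = (fx Ω (P : Subgroup G)).ncard % 3 := h1
  refine strongly_emb htrans P (h3.trans (card_subgroup_dvd_card _)) _ ?_ ?_
  · rw [← Set.ncard_pos]
    omega
  · intro x hx hx1
    symm
    refine Set.eq_of_subset_of_ncard_le (fx_sub_fixedBy hx) ?_ (Set.toFinite _)
    have h4 := card_fixedBy_modEq (Ω := Ω) (isPGroup_zpowers_of_mem P.isPGroup' hx)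
    have h5 : Nat.card Ω % 3 = (MulAction.fixedBy Ω x).ncard % 3 := h4
    have h6 := hfix x hx1
    omega

theorem three_case_one [Finite Ω] [IsSimpleGroup G] [FaithfulSMul G Ω]
    (hna : ¬ IsMulCommutative G) (htrans : MulAction.IsPretransitive G Ω)
    (hfix : ∀ g : G, g ≠ 1 → (MulAction.fixedBy Ω g).ncard ≤ 4)
    (hodd : ∀ a : Ω, Odd (Nat.card (MulAction.stabilizer G a))) (P : Sylow 3 G)
    (htr : 27 ≤ Nat.card P → ∀ s : G, orderOf s = 3 →
      ¬ 27 ∣ Nat.card (centralizer ({s} : Set G)) → (∀ g : G, g * s * g⁻¹ ≠ s⁻¹) → False)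
    (a : Ω) (h3 : 3 ∣ Nat.card (MulAction.stabilizer G a)) (hmod : Nat.card Ω % 3 = 1) :
    Concl3 P := by
  have h1 := card_fx_modEq (Ω := Ω) P.isPGroup'
  have h2 : Nat.card Ω % 3 = (fx Ω (P : Subgroup G)).ncard % 3 := h1
  by_cases hall : ∀ x ∈ (P : Subgroup G), x ≠ 1 → MulAction.fixedBy Ω x = fx Ω (P : Subgroup G)
  · left
    refine ⟨mst G (fx Ω (P : Subgroup G)), ?_⟩
    refine strongly_emb htrans P (h3.trans (card_subgroup_dvd_card _)) _ ?_ hall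
    rw [← Set.ncard_pos]
    omega
  push Not at hall
  obtain ⟨x₁, hx₁, hx₁1, hx₁F⟩ := hall
  have h4 : ∀ x ∈ (P : Subgroup G), x ≠ 1 →
      Nat.card Ω % 3 = (MulAction.fixedBy Ω x).ncard % 3 := fun x hx _ =>
    card_fixedBy_modEq (Ω := Ω) (isPGroup_zpowers_of_mem P.isPGroup' hx)
  have hx₁4 : (MulAction.fixedBy Ω x₁).ncard = 4 ∧ (fx Ω (P : Subgroup G)).ncard = 1 := by
    have h5 := hfix x₁ hx₁1
    have h6 := h4 x₁ hx₁ hx₁1
    have h7 : (fx Ω (P : Subgroup G)).ncard ≤ (MulAction.fixedBy Ω x₁).ncard :=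
      Set.ncard_le_ncard (fx_sub_fixedBy hx₁)
    have h8 : ¬ (MulAction.fixedBy Ω x₁).ncard ≤ (fx Ω (P : Subgroup G)).ncard := by
      intro h9
      exact hx₁F (Set.eq_of_subset_of_ncard_le (fx_sub_fixedBy hx₁) h9 (Set.toFinite _)).symm
    omega
  obtain ⟨a₀, ha₀⟩ := Set.ncard_eq_one.1 hx₁4.2
  have hPa₀ : ∀ g ∈ (P : Subgroup G), g • a₀ = a₀ := by
    have : a₀ ∈ fx Ω (P : Subgroup G) := by rw [ha₀]; rfl
    exact this
  have hne1 : ∀ w : G, w ≠ 1 → ∀ g : G, g * w * g⁻¹ ≠ 1 := by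
    intro w hw g h
    apply hw
    have : w = g⁻¹ * (g * w * g⁻¹) * g := by group
    rw [this, h]; simp
  -- facts on good sets
  have hKfix : ∀ Δ : Set Ω, Δ.ncard = 4 → ∀ y ∈ kst G Δ, y ≠ 1 → MulAction.fixedBy Ω y = Δ := by
    intro Δ hΔ y hy hy1
    symm
    exact Set.eq_of_subset_of_ncard_le (fun z hz => hy z hz) (by rw [hΔ]; exact hfix y hy1)
      (Set.toFinite _)
  have hgood : ∀ Δ : Set Ω, Δ.ncard = 4 → (P : Subgroup G) ⊓ kst G Δ ≠ ⊥ → a₀ ∈ Δ := by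
    intro Δ hΔ hne
    obtain ⟨y, hy, hy1⟩ := exists_mem_ne_one hne
    rw [mem_inf] at hy
    rw [← hKfix Δ hΔ y hy.2 hy1]
    exact hPa₀ y hy.1
  have hΓcard : ∀ Δ : Set Ω, Δ.ncard = 4 → a₀ ∈ Δ → (Δ \ {a₀}).ncard = 3 := by
    intro Δ hΔ h
    rw [Set.ncard_sdiff_singleton_of_mem h, hΔ]
  have hpresΓ : ∀ Δ : Set Ω, ∀ g ∈ mst G Δ, g • a₀ = a₀ → ∀ x ∈ Δ \ {a₀}, g • x ∈ Δ \ {a₀} := by
    intro Δ g hg hga x hx
    refine ⟨(hg x).2 hx.1, ?_⟩
    intro h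
    apply hx.2
    have h5 : g • x = g • a₀ := by rw [hga]; exact h
    exact MulAction.injective g h5
  have hkerΓ : ∀ Δ : Set Ω, a₀ ∈ Δ → ∀ g : G, g • a₀ = a₀ →
      (g ∈ kst G Δ ↔ ∀ x ∈ Δ \ {a₀}, g • x = x) := by
    intro Δ ha g hga
    constructor
    · intro h x hx
      exact h x hx.1
    · intro h x hx
      by_cases hxa : x = a₀
      · rw [hxa, hga]
      · exact h x ⟨hx, hxa⟩
  have hB : ∀ Δ : Set Ω, Δ.ncard = 4 → (P : Subgroup G) ⊓ kst G Δ ≠ ⊥ →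
      ¬ (P : Subgroup G) ≤ mst G Δ →
      Nat.card ((P : Subgroup G) ⊓ kst G Δ : Subgroup G) = 3 ∧ 27 ≤ Nat.card P ∧
        ∃ s ∈ (P : Subgroup G) ⊓ kst G Δ, s ≠ 1 ∧ orderOf s = 3 ∧ ∀ g : G, g * s * g⁻¹ ≠ s⁻¹ := by
    intro Δ hΔ hne hPM
    have ha := hgood Δ hΔ hne
    refine subcaseB (Γ := Δ \ {a₀}) rfl hne (fun x hx hx1 => hKfix Δ hΔ x (mem_inf.1 hx).2 hx1)
      Set.sdiff_subset (hΓcard Δ hΔ ha) (by omega) ?_ ?_ hodd hPM
    · intro g hg x hx
      rw [mem_inf] at hg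
      exact hpresΓ Δ g hg.2 (hPa₀ g hg.1) x hx
    · intro g hg
      rw [mem_inf] at hg
      rw [mem_inf, hkerΓ Δ ha g (hPa₀ g hg.1)]
      exact ⟨fun h => h.2, fun h => ⟨hg.1, h⟩⟩
  by_cases hA : ∃ Δ : Set Ω, Δ.ncard = 4 ∧ (P : Subgroup G) ⊓ kst G Δ ≠ ⊥ ∧
      (P : Subgroup G) ≤ mst G Δ
  · obtain ⟨Δ, hΔ, hne, hPM⟩ := hA
    have ha := hgood Δ hΔ hne
    obtain ⟨T, hT⟩ : ∃ T : Subgroup G, T = (P : Subgroup G) ⊓ kst G Δ := ⟨_, rfl⟩
    rw [← hT] at hne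
    have hTP : T ≤ (P : Subgroup G) := hT ▸ inf_le_left
    have hfixT : ∀ x ∈ T, x ≠ 1 → MulAction.fixedBy Ω x = Δ := by
      intro x hx hx1
      rw [hT, mem_inf] at hx
      exact hKfix Δ hΔ x hx.2 hx1
    have hrel : T.relIndex (P : Subgroup G) ∣ 3 := by
      refine relIndex_dvd_three P.isPGroup' hTP
        (relIndex_dvd_factorial (Γ := Δ \ {a₀}) (hΓcard Δ hΔ ha) ?_ ?_)
      · intro g hg x hx
        exact hpresΓ Δ g (hPM hg) (hPa₀ g hg) x hx
      · intro g hg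
        rw [hT, mem_inf, hkerΓ Δ ha g (hPa₀ g hg)]
        exact ⟨fun h => h.2, fun h => ⟨hg, h⟩⟩
    have hrel3 : T.relIndex (P : Subgroup G) = 3 := by
      rcases (Nat.dvd_prime Nat.prime_three).1 hrel with h5 | h5
      · exfalso
        rw [relIndex_eq_one, hT] at h5
        have h6 : Δ ⊆ fx Ω (P : Subgroup G) := fun x hx g hg => (mem_inf.1 (h5 hg)).2 x hx
        have h7 := Set.ncard_le_ncard h6
        omega
      · exact h5
    have hTn : ∀ g ∈ (P : Subgroup G), ∀ x ∈ T, g * x * g⁻¹ ∈ T := by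
      intro g hg x hx
      rw [hT, mem_inf] at hx ⊢
      exact ⟨mul_mem (mul_mem hg hx.1) (inv_mem hg), mst_kst_normal (hPM hg) hx.2⟩
    have h := t3a P T (mst G Δ) (MulAction.stabilizer G a₀) hTP hne hTn hrel3 ?_
      (fun w hw hw1 g hg => mem_mst_of_fixedBy (hfixT w hw hw1) (hfixT _ hg (hne1 w hw1 g)))
      ?_ ?_
    · rcases h with h | h
      · exfalso
        refine no_normal_index hna P T (lt_of_le_of_ne hTP ?_) hTn h
        intro h4
        rw [h4, relIndex_self] at hrel3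
        omega
      · exact Or.inr h
    · intro X hXP hXT hXT1 g hg
      obtain ⟨y, hy, hy1⟩ := exists_mem_ne_one hXT1
      rw [mem_inf] at hy
      have h5 : fx Ω X ⊆ Δ := by
        rw [← hfixT y hy.2 hy1]
        exact fx_sub_fixedBy hy.1
      have h6 : Nat.card Ω % 3 = (fx Ω X).ncard % 3 :=
        card_fx_modEq (Ω := Ω) (P.isPGroup'.to_le hXP)
      have h7 : (fx Ω X).ncard ≤ 4 := hΔ ▸ Set.ncard_le_ncard h5
      have h8 : (fx Ω X).ncard ≠ 4 := by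
        intro h8
        have h9 : fx Ω X = Δ := Set.eq_of_subset_of_ncard_le h5 (by omega) (Set.toFinite _)
        apply hXT
        intro x hx
        rw [hT, mem_inf]
        refine ⟨hXP hx, ?_⟩
        intro z hz
        rw [← h9] at hz
        exact hz x hx
      have h9 : (fx Ω X).ncard = 1 := by omega
      obtain ⟨c, hc⟩ := Set.ncard_eq_one.1 h9
      have h10 : a₀ ∈ fx Ω X := fun g hg => hPa₀ g (hXP hg)
      rw [hc] at h10
      have h11 : a₀ = c := h10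
      subst h11
      have h12 := fx_mst (Ω := Ω) hg
      rw [hc] at h12
      exact (h12 a₀).2 rfl
    · intro g hg x hx hgx
      rw [mem_inf] at hg
      rw [hT, mem_inf]
      refine ⟨mul_mem hgx (inv_mem hx), ?_⟩
      have hga : g • a₀ = a₀ := hg.1
      have hxa := hPa₀ x hx
      rw [hkerΓ Δ ha _ (by
        rw [mul_smul, mul_smul, mul_smul, inv_smul_eq_iff.2 hxa.symm, inv_smul_eq_iff.2 hga.symm,
          hxa, hga])]
      have hle : MulAction.stabilizer G a₀ ⊓ mst G Δ ≤ MulAction.stabilizer G a₀ := inf_le_left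
      exact odd_act_comm (H := MulAction.stabilizer G a₀ ⊓ mst G Δ) (hΓcard Δ hΔ ha)
        (Odd.of_dvd_nat (hodd a₀) (card_dvd_of_le hle))
        (fun g hg x hx => hpresΓ Δ g (mem_inf.1 hg).2 (mem_inf.1 hg).1 x hx)
        (mem_inf.2 hg) (mem_inf.2 ⟨hxa, hPM hx⟩)
    · intro w hw hw1 g hg hgw
      exact hw1 (odd_no_invert (hodd a₀) hg (hPa₀ w (hTP hw)) hgw)
  · exfalso
    push Not at hA
    obtain ⟨Δ, hΔdef⟩ : ∃ Δ : Set Ω, Δ = MulAction.fixedBy Ω x₁ := ⟨_, rfl⟩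
    have hΔ : Δ.ncard = 4 := hΔdef ▸ hx₁4.1
    have hx₁K : x₁ ∈ kst G Δ := by
      intro z hz
      rw [hΔdef] at hz
      exact hz
    have hne : (P : Subgroup G) ⊓ kst G Δ ≠ ⊥ := by
      intro h
      have h5 : x₁ ∈ (P : Subgroup G) ⊓ kst G Δ := mem_inf.2 ⟨hx₁, hx₁K⟩
      rw [h, mem_bot] at h5
      exact hx₁1 h5
    obtain ⟨hc3, h27, s, hs, hs1, hs3, hinv⟩ := hB Δ hΔ hne (hA Δ hΔ hne)
    rw [mem_inf] at hs
    refine htr h27 s hs3 (not_dvd_centralizer hΔ (by decide) (hKfix Δ hΔ s hs.2 hs1) ?_) hinv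
    intro h9
    obtain ⟨R, -, hRN, hR, hRi⟩ := exists_sylow_in (p := 3) (N := kst G Δ) (D := ⊥)
      bot_le IsPGroup.of_bot
    have hcR : 9 ∣ Nat.card R := by
      rw [← card_mul_relIndex' hRN] at h9
      have h10 : Nat.Coprime 9 (R.relIndex (kst G Δ)) := by
        have : Nat.Coprime 3 (R.relIndex (kst G Δ)) := (Nat.Prime.coprime_iff_not_dvd Nat.prime_three).2 hRi
        have h11 := Nat.Coprime.pow_left 2 this
        exact h11
      exact h10.dvd_of_dvd_mul_right h9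
    obtain ⟨Q, hQ⟩ := hR.exists_le_sylow
    obtain ⟨k, hk⟩ := MulAction.exists_smul_eq G Q P
    have hkR : R.map (MulAut.conj k).toMonoidHom ≤ (P : Subgroup G) := by
      rw [← hk, Sylow.coe_subgroup_smul]
      rintro _ ⟨r, hr, rfl⟩
      exact Subgroup.smul_mem_pointwise_smul _ (MulAut.conj k) _ (hQ hr)
    obtain ⟨Δ', hΔ'⟩ : ∃ Δ' : Set Ω, Δ' = (fun x => k • x) '' Δ := ⟨_, rfl⟩
    have hΔ'4 : Δ'.ncard = 4 := by
      rw [hΔ', Set.ncard_image_of_injective _ (MulAction.injective k), hΔ]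
    have hle : R.map (MulAut.conj k).toMonoidHom ≤ (P : Subgroup G) ⊓ kst G Δ' := by
      refine le_inf hkR ?_
      rintro _ ⟨r, hr, rfl⟩
      intro z hz
      rw [hΔ'] at hz
      obtain ⟨y, hy, rfl⟩ := hz
      have h12 : r • y = y := hRN hr y hy
      show (k * r * k⁻¹) • k • y = k • y
      rw [mul_smul, mul_smul, inv_smul_smul, h12]
    have h13 := card_dvd_of_le hle
    rw [card_map_conj] at h13
    have h14 : 9 ∣ Nat.card ((P : Subgroup G) ⊓ kst G Δ' : Subgroup G) := hcR.trans h13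
    have hne' : (P : Subgroup G) ⊓ kst G Δ' ≠ ⊥ := by
      intro h
      rw [h, card_bot] at h14
      omega
    have h15 := (hB Δ' hΔ'4 hne' (hA Δ' hΔ'4 hne')).1
    omega

theorem three_case [Finite Ω] [IsSimpleGroup G] [FaithfulSMul G Ω]
    (hna : ¬ IsMulCommutative G) (htrans : MulAction.IsPretransitive G Ω)
    (hfix : ∀ g : G, g ≠ 1 → (MulAction.fixedBy Ω g).ncard ≤ 4)
    (hodd : ∀ a : Ω, Odd (Nat.card (MulAction.stabilizer G a))) (P : Sylow 3 G)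
    (htr : 27 ≤ Nat.card P → ∀ s : G, orderOf s = 3 →
      ¬ 27 ∣ Nat.card (centralizer ({s} : Set G)) → (∀ g : G, g * s * g⁻¹ ≠ s⁻¹) → False)
    (a : Ω) (h3 : 3 ∣ Nat.card (MulAction.stabilizer G a)) :
    Concl3 P := by
  have h : Nat.card Ω % 3 = 0 ∨ Nat.card Ω % 3 = 1 ∨ Nat.card Ω % 3 = 2 := by omega
  rcases h with h | h | h
  · exact three_case_zero hna htrans hfix hodd P htr a h3 h
  · exact three_case_one hna htrans hfix hodd P htr a h3 h
  · exact three_case_two htrans hfix P a h3 h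

end Cfsg.Agent.H350.Fix
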